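import Mathlib

/-!
# The number of Sylow subgroups: normal subgroups and quotients

`n_p(G) = n_p(G/K) n_p(PK)`, `n_p(PK) = n_p(K) n_p(N_{PK}(P ∩ K)/(P ∩ K))` (M. Hall).
-/

set_option autoImplicit false

namespace Cfsg.Agent.H571.SylowNumber

variable {G : Type*} [Group G]

/-- For `K` normal, `|HK : H| = |K : H ∩ K|`. -/
theorem relIndex_sup_of_normal [Finite G] (H K : Subgroup G) [K.Normal] :
    H.relIndex (H ⊔ K) = H.relIndex K := by
  have h1 : K.relIndex (H ⊔ K) = K.relIndex H := Subgroup.relIndex_sup_right H K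
  have e1 : (H ⊓ K).relIndex H * H.relIndex (H ⊔ K) = (H ⊓ K).relIndex (H ⊔ K) :=
    Subgroup.relIndex_mul_relIndex _ _ _ inf_le_left le_sup_left
  have e2 : (H ⊓ K).relIndex K * K.relIndex (H ⊔ K) = (H ⊓ K).relIndex (H ⊔ K) :=
    Subgroup.relIndex_mul_relIndex _ _ _ inf_le_right le_sup_right
  have e3 : (H ⊓ K).relIndex H = K.relIndex H := by
    rw [← Subgroup.inf_relIndex_right K H, inf_comm]
  have e4 : (H ⊓ K).relIndex K = H.relIndex K := Subgroup.inf_relIndex_right H K
  rw [e3] at e1
  rw [e4, h1] at e2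
  have hpos : K.relIndex H ≠ 0 := Subgroup.index_ne_zero_of_finite
  have : K.relIndex H * H.relIndex (H ⊔ K) = K.relIndex H * H.relIndex K := by
    rw [e1, ← e2, mul_comm]
  exact Nat.eq_of_mul_eq_mul_left (Nat.pos_of_ne_zero hpos) this

section
variable [Finite G] {p : ℕ} [hp : Fact p.Prime]

/-- The number of Sylow `p`-subgroups is unchanged modulo a normal `p`-subgroup. -/
theorem card_sylow_of_surjective {Q : Type*} [Group Q] (f : G →* Q)
    (hf : Function.Surjective f) (hk : IsPGroup p f.ker) :
    Nat.card (Sylow p G) = Nat.card (Sylow p Q) := by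
  have hQ : Finite Q := Finite.of_surjective f hf
  apply Nat.card_congr
  refine Equiv.ofBijective (fun P => P.mapSurjective hf) ⟨?_, Sylow.mapSurjective_surjective hf p⟩
  intro P R h
  have h1 : ((P : Subgroup G).map f) = ((R : Subgroup G).map f) := by
    have := congrArg (fun S : Sylow p Q => (S : Subgroup Q)) h
    simpa using this
  have hP : f.ker ≤ P := IsPGroup.le_sylow_of_normal hk P
  have hR : f.ker ≤ R := IsPGroup.le_sylow_of_normal hk R
  apply Sylow.ext
  rw [← Subgroup.comap_map_eq_self hP, ← Subgroup.comap_map_eq_self hR, h1]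

/-- Isomorphic groups have the same number of Sylow subgroups. -/
theorem card_sylow_congr {Q : Type*} [Group Q] (e : G ≃* Q) :
    Nat.card (Sylow p G) = Nat.card (Sylow p Q) := by
  apply card_sylow_of_surjective e.toMonoidHom e.surjective
  have : e.toMonoidHom.ker = ⊥ := (MonoidHom.ker_eq_bot_iff _).2 e.injective
  rw [this]
  exact IsPGroup.of_bot

/-- The number of Sylow `p`-subgroups of `L` is `|L : N_L(P)|` if `P ≤ L` is a Sylow subgroup
of `G`. -/
theorem card_sylow_eq_relIndex (P : Sylow p G) (L : Subgroup G) (hP : (P : Subgroup G) ≤ L) :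
    Nat.card (Sylow p L) = (Subgroup.normalizer ((P : Subgroup G) : Set G)).relIndex L := by
  rw [(P.subtype hP).card_eq_index_normalizer, Subgroup.relIndex]
  congr 1
  have h1 := Subgroup.subgroupOf_normalizer_eq hP
  rw [h1]
  rfl

/-- `P ∩ K` is a Sylow `p`-subgroup of the normal subgroup `K`. -/
theorem exists_sylow_inf (P : Sylow p G) (K : Subgroup G) [K.Normal] :
    ∃ T : Sylow p K, (T : Subgroup K) = (P : Subgroup G).subgroupOf K := by
  have h1 : IsPGroup p ((P : Subgroup G).subgroupOf K) := by
    have h2 : IsPGroup p ((P : Subgroup G).comap K.subtype) :=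
      P.isPGroup'.comap_of_injective K.subtype K.subtype_injective
    exact h2
  have h2 : ¬ p ∣ ((P : Subgroup G).subgroupOf K).index := by
    have h3 : (P : Subgroup G).relIndex K = (P : Subgroup G).relIndex ((P : Subgroup G) ⊔ K) :=
      (relIndex_sup_of_normal _ _).symm
    have h4 : (P : Subgroup G).relIndex ((P : Subgroup G) ⊔ K) ∣ (P : Subgroup G).index :=
      Subgroup.relIndex_dvd_index_of_le le_sup_left
    intro h
    exact P.not_dvd_index ((show p ∣ (P : Subgroup G).relIndex K from h).trans (h3 ▸ h4))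
  exact ⟨h1.toSylow h2, rfl⟩

/-- The number of Sylow `p`-subgroups of the normal subgroup `K` is `|K : N_K(P ∩ K)|`. -/
theorem card_sylow_normal (P : Sylow p G) (K : Subgroup G) [K.Normal] :
    Nat.card (Sylow p K) =
      (Subgroup.normalizer ((((P : Subgroup G) ⊓ K : Subgroup G)) : Set G)).relIndex K := by
  obtain ⟨T, hT⟩ := exists_sylow_inf P K
  rw [T.card_eq_index_normalizer, Subgroup.relIndex]
  congr 1
  have h1 := Subgroup.subgroupOf_normalizer_eq (H := (P : Subgroup G) ⊓ K) (N := K) inf_le_right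
  rw [h1, Subgroup.inf_subgroupOf_right, ← hT]
  rfl

/-- The Frattini argument for `P ∩ K`. -/
theorem normalizer_inf_sup_eq_top (P : Sylow p G) (K : Subgroup G) [K.Normal] :
    Subgroup.normalizer ((((P : Subgroup G) ⊓ K : Subgroup G)) : Set G) ⊔ K = ⊤ := by
  obtain ⟨T, hT⟩ := exists_sylow_inf P K
  have h1 := Sylow.normalizer_sup_eq_top T
  have h2 : (T : Subgroup K).map K.subtype = (P : Subgroup G) ⊓ K := by
    rw [hT, Subgroup.subgroupOf_map_subtype]
  rw [h2] at h1
  exact h1

/-- A normal subgroup containing a Sylow `p`-subgroup has the same Sylow `p`-subgroups. -/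
theorem card_sylow_of_le_normal (P : Sylow p G) (K : Subgroup G) [K.Normal]
    (hP : (P : Subgroup G) ≤ K) : Nat.card (Sylow p K) = Nat.card (Sylow p G) := by
  rw [card_sylow_normal P K, P.card_eq_index_normalizer, inf_eq_left.2 hP]
  have h1 := normalizer_inf_sup_eq_top P K
  rw [inf_eq_left.2 hP] at h1
  have h2 := relIndex_sup_of_normal (Subgroup.normalizer ((P : Subgroup G) : Set G)) K
  rw [h1, Subgroup.relIndex_top_right] at h2
  exact h2.symm

/-- `n_p(PK) = |PK : N(P)|` and `n_p(G) = n_p(G/K) n_p(PK)`. -/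
theorem card_sylow_eq_mul (P : Sylow p G) (K : Subgroup G) [K.Normal] :
    Nat.card (Sylow p G) =
      Nat.card (Sylow p (G ⧸ K)) * Nat.card (Sylow p ((P : Subgroup G) ⊔ K : Subgroup G)) := by
  set M := Subgroup.normalizer (((P : Subgroup G) ⊔ K : Subgroup G) : Set G) with hM
  have hPM : (P : Subgroup G) ⊔ K ≤ M := Subgroup.le_normalizer
  -- `n_p(G/K) = |G : M|`
  have h1 : Nat.card (Sylow p (G ⧸ K)) = M.index := by
    have hs : Function.Surjective (QuotientGroup.mk' K) := QuotientGroup.mk'_surjective K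
    rw [(P.mapSurjective hs).card_eq_index_normalizer]
    have e1 : ((P.mapSurjective hs : Sylow p (G ⧸ K)) : Set (G ⧸ K)) =
        (((P : Subgroup G).map (QuotientGroup.mk' K) : Subgroup (G ⧸ K)) : Set (G ⧸ K)) := rfl
    rw [e1]
    rw [← Subgroup.index_comap_of_surjective _ hs, Subgroup.comap_normalizer_eq_of_surjective _ hs,
      Subgroup.comap_map_eq, QuotientGroup.ker_mk']
  -- `n_p(M) = n_p(PK)`
  have h2 : Nat.card (Sylow p ((P : Subgroup G) ⊔ K : Subgroup G)) = Nat.card (Sylow p M) := by
    have hn : (((P : Subgroup G) ⊔ K).subgroupOf M).Normal := Subgroup.normal_in_normalizer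
    have hPM' : (P : Subgroup G) ≤ M := le_sup_left.trans hPM
    rw [← card_sylow_of_le_normal (P.subtype hPM') (((P : Subgroup G) ⊔ K).subgroupOf M)]
    · exact (card_sylow_congr (Subgroup.subgroupOfEquivOfLe hPM)).symm
    · rw [Sylow.coe_subtype]
      exact Subgroup.comap_mono le_sup_left
  have h3 : Subgroup.normalizer ((P : Subgroup G) : Set G) ≤ M := by
    intro g hg
    rw [hM, Subgroup.mem_normalizer_iff]
    rw [Subgroup.mem_normalizer_iff] at hg
    have hmap : ∀ H : Subgroup G, (∀ h, h ∈ H ↔ g * h * g⁻¹ ∈ H) ↔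
        H.map (MulAut.conj g).toMonoidHom = H := by
      intro H
      constructor
      · intro h
        ext x
        constructor
        · rintro ⟨y, hy, rfl⟩
          exact (h y).1 hy
        · intro hx
          refine ⟨g⁻¹ * x * g, (h _).2 (by simpa [mul_assoc] using hx), ?_⟩
          simp [mul_assoc]
      · intro h x
        constructor
        · intro hx
          rw [← h]
          exact ⟨x, hx, rfl⟩
        · intro hx
          rw [← h] at hx
          obtain ⟨y, hy, hyx⟩ := hx
          have : y = x := by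
            have h5 : g * y * g⁻¹ = g * x * g⁻¹ := hyx
            simpa using h5
          exact this ▸ hy
    rw [hmap] at hg
    rw [hmap, Subgroup.map_sup, hg]
    congr 1
    rw [← hmap]
    intro x
    have hKn : K.Normal := inferInstance
    constructor
    · intro hx
      exact hKn.conj_mem x hx g
    · intro hx
      have := hKn.conj_mem _ hx g⁻¹
      have h6 : g⁻¹ * (g * x * g⁻¹) * g⁻¹⁻¹ = x := by group
      rwa [h6] at this
  rw [h1, h2, card_sylow_eq_relIndex P M (le_sup_left.trans hPM), P.card_eq_index_normalizer,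
    mul_comm, Subgroup.relIndex_mul_index h3]
  rfl

/-- M. Hall's formula in `PK`: `n_p(PK) = n_p(K) n_p(N_{PK}(P ∩ K))`. -/
theorem card_sylow_sup (P : Sylow p G) (K : Subgroup G) [K.Normal] (N : Subgroup G)
    (hN : N = ((P : Subgroup G) ⊔ K) ⊓
      Subgroup.normalizer (((P : Subgroup G) ⊓ K : Subgroup G) : Set G)) :
    Nat.card (Sylow p ((P : Subgroup G) ⊔ K : Subgroup G)) =
      Nat.card (Sylow p K) * Nat.card (Sylow p N) := by
  set NP := Subgroup.normalizer ((P : Subgroup G) : Set G) with hNP
  set NI := Subgroup.normalizer (((P : Subgroup G) ⊓ K : Subgroup G) : Set G) with hNI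
  set L := (P : Subgroup G) ⊔ K with hL
  have hKn : K.Normal := inferInstance
  have hNPI : NP ≤ NI := by
    intro g hg
    rw [hNI, Subgroup.mem_normalizer_iff]
    rw [hNP, Subgroup.mem_normalizer_iff] at hg
    intro x
    rw [Subgroup.mem_inf, Subgroup.mem_inf, hg x]
    constructor
    · rintro ⟨h1, h2⟩
      exact ⟨h1, hKn.conj_mem x h2 g⟩
    · rintro ⟨h1, h2⟩
      refine ⟨h1, ?_⟩
      have := hKn.conj_mem _ h2 g⁻¹
      have h6 : g⁻¹ * (g * x * g⁻¹) * g⁻¹⁻¹ = x := by group
      rwa [h6] at this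
  have hPN : (P : Subgroup G) ≤ N := by
    rw [hN]
    exact le_inf le_sup_left (Subgroup.le_normalizer.trans hNPI)
  have hNL : N ≤ L := by rw [hN]; exact inf_le_left
  -- `L = N ⊔ K`
  have hLNK : N ⊔ K = L := by
    apply le_antisymm
    · exact sup_le hNL le_sup_right
    · exact sup_le (hPN.trans le_sup_left) le_sup_right
  have e1 : NP.relIndex L = NP.relIndex N * N.relIndex L := by
    have h0 : NP ⊓ L ≤ N := by
      rw [hN]
      exact le_inf inf_le_right (inf_le_left.trans hNPI)
    have h1 : (NP ⊓ L).relIndex N * N.relIndex L = (NP ⊓ L).relIndex L :=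
      Subgroup.relIndex_mul_relIndex _ _ _ h0 hNL
    rw [Subgroup.inf_relIndex_right] at h1
    rw [← h1]
    congr 1
    rw [← Subgroup.inf_relIndex_right (NP ⊓ L) N, ← Subgroup.inf_relIndex_right NP N,
      inf_assoc, inf_eq_right.2 hNL]
  have e2 : N.relIndex L = NI.relIndex K := by
    rw [← hLNK, relIndex_sup_of_normal, ← Subgroup.inf_relIndex_right N K,
      ← Subgroup.inf_relIndex_right NI K]
    congr 1
    rw [hN]
    apply le_antisymm
    · exact le_inf (inf_le_left.trans inf_le_right) inf_le_right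
    · exact le_inf (le_inf (inf_le_right.trans le_sup_right) inf_le_left) inf_le_right
  rw [card_sylow_eq_relIndex P L le_sup_left, card_sylow_eq_relIndex P N hPN,
    card_sylow_normal P K, ← hNP, e1, e2, mul_comm]

end

end Cfsg.Agent.H571.SylowNumber
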