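import Cfsg.Agent.H571.DExtC

/-!
# `D_π` for extensions of a group with a nilpotent Hall `π`-subgroup (helper571)

* `dom_of_nilpotent` : a finite group with a nilpotent Hall `π`-subgroup is a `D_π`-group (Wielandt, S0581);
* `dom_ext_nilpotent` : `X` normal in `G` with a nilpotent Hall `π`-subgroup, `D_π(G/X)`, the `π`-subgroups of `G/X`
  solvable: `D_π(G)`.
-/

set_option autoImplicit false

namespace Cfsg.Agent.H571.DExt

open Subgroup Cfsg Cfsg.Agent.H988.CPi Cfsg.Agent.Solvable.SZ
open scoped Pointwise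

variable {π : Set ℕ} {G : Type*} [Group G] [Finite G]

/-- a `π`-subgroup lies in a conjugate of a nilpotent Hall `π`-subgroup -/
theorem le_conj_nilpotent {H : Subgroup G} (hH : IsPiHall π H) (hn : Group.IsNilpotent H) {K : Subgroup G}
    (hK : PiN π (Nat.card K)) : ∃ x : G, K ≤ MulAut.conj x • H := by
  refine Cfsg.Agent.S0581.result H K hn (PiN.coprime hH.1 hH.2) fun p hp hd => ?_
  by_contra hcon
  have h1 : p ∣ Nat.card H * H.index := by
    rw [card_mul_index]; exact hd.trans (card_subgroup_dvd_card K)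
  exact hH.2 p hp (hK p hp hd) ((hp.dvd_mul.mp h1).resolve_left hcon)

theorem dom_of_nilpotent {H : Subgroup G} (hH : IsPiHall π H) (hn : Group.IsNilpotent H) : Dom π G :=
  ⟨H, hH, fun _ hK => le_conj_nilpotent hH hn hK⟩

omit [Finite G] in
/-- `Q ≤ H`, `H` a nilpotent `π`-group, `N_X(Q)/Q` a `π'`-group: `Q = H`. -/
theorem eq_of_normalizer_pi' {X Q H : Subgroup G} (hQH : Q ≤ H) (hHX : H ≤ X) (hn : Group.IsNilpotent H)
    (hH : PiN π (Nat.card H)) (h : PiN' π (Q.relIndex (normalizer (Q : Set G) ⊓ X))) : Q = H := by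
  have hnc := Group.normalizerCondition_of_isNilpotent (G := H)
  rw [normalizerCondition_iff_only_full_group_self_normalizing] at hnc
  have h1 : Q.subgroupOf H = ⊤ := by
    apply hnc
    have h2 : normalizer ((Q.subgroupOf H : Subgroup H) : Set H) = (normalizer (Q : Set G)).subgroupOf H := by
      ext x
      rw [mem_subgroupOf, mem_normalizer_iff, mem_normalizer_iff]
      constructor
      · intro hx g
        constructor
        · intro hg
          exact (hx ⟨g, hQH hg⟩).mp hg
        · intro hg
          have h3 : g ∈ H := by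
            have h4 := H.mul_mem (H.mul_mem (H.inv_mem x.2) (hQH hg)) x.2
            simpa [mul_assoc] using h4
          exact (hx ⟨g, h3⟩).mpr hg
      · intro hx g
        exact hx (g : G)
    rw [h2]
    apply le_antisymm
    · intro x hx
      have h3 : Q.relIndex (normalizer (Q : Set G) ⊓ H) = 1 := by
        apply eq_one_of_both (π := π)
        · exact (hH.of_dvd (card_dvd_of_le inf_le_right)).of_dvd (relIndex_dvd_card _ _)
        · refine h.of_dvd ?_
          have := relIndex_mul_relIndex Q (normalizer (Q : Set G) ⊓ H) (normalizer (Q : Set G) ⊓ X)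
            (le_inf le_normalizer hQH) (inf_le_inf_left _ hHX)
          exact ⟨_, this.symm⟩
      exact relIndex_eq_one.mp h3 ⟨hx, x.2⟩
    · intro x hx
      exact le_normalizer (show (x : G) ∈ Q from hx)
  rw [subgroupOf_eq_top] at h1
  exact le_antisymm hQH h1

/-- A maximal `π`-subgroup `P` of `G` with `PX/X` solvable, `X` normal with nilpotent Hall `π`-subgroup: `P ∩ X` is a
Hall subgroup of `X`. -/
theorem inter_hall_of_nilpotent (X : Subgroup G) [X.Normal] {H : Subgroup X} (hH : IsPiHall π H)
    (hn : Group.IsNilpotent H) {P : Subgroup G} (hP : Maximal (IsPiSubgroup π) P)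
    (hsol : Group.IsSolvable (P.map (QuotientGroup.mk' X))) : PiN' π ((P ⊓ X).relIndex X) := by
  have hQπ : PiN π (Nat.card ((P ⊓ X).subgroupOf X)) := by
    rw [card_subgroupOf _ _ inf_le_right]; exact PiN.of_dvd hP.1 (card_dvd_of_le inf_le_left)
  obtain ⟨x, hx⟩ := le_conj_nilpotent hH hn hQπ
  have hH1 := isPiHall_smul hH x
  have hn1 : Group.IsNilpotent (MulAut.conj x • H : Subgroup X) :=
    Group.nilpotent_of_mulEquiv (Subgroup.equivSMul (MulAut.conj x) H)
  set H1 := (MulAut.conj x • H : Subgroup X) with hH1d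
  have hn2 : Group.IsNilpotent (H1.map X.subtype) :=
    Group.nilpotent_of_mulEquiv (H1.equivMapOfInjective X.subtype X.subtype_injective)
  have h1 : P ⊓ X = H1.map X.subtype := by
    apply eq_of_normalizer_pi' (π := π) (X := X) _ (map_subtype_le H1) hn2
    · rw [card_map_of_injective X.subtype_injective]; exact hH1.1
    · exact piN'_normalizer_quot X hP hsol
    · have := map_mono (f := X.subtype) hx
      rwa [subgroupOf_map_subtype, inf_of_le_left (inf_le_right : P ⊓ X ≤ X)] at this
  rw [h1]
  have h2 : (H1.map X.subtype).relIndex X = H1.index := by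
    rw [relIndex, subgroupOf, comap_map_eq_self_of_injective X.subtype_injective]
  rw [h2]
  exact hH1.2

/-- **`D_π` for extensions**: `X` normal with a nilpotent Hall `π`-subgroup, `D_π(G/X)`, and the `π`-subgroups of
`G/X` solvable. -/
theorem dom_ext_nilpotent (X : Subgroup G) [X.Normal] {H : Subgroup X} (hH : IsPiHall π H)
    (hn : Group.IsNilpotent H) (hQ : Dom π (G ⧸ X))
    (hsol : ∀ Y : Subgroup (G ⧸ X), PiN π (Nat.card Y) → Group.IsSolvable Y) : Dom π G := by
  have hC : IsCPiGroup π X := (dom_of_nilpotent hH hn).cpi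
  refine dom_of_maximal (cpi_extension X hC hQ.cpi) fun P hP => ?_
  exact hall_of_inter X hC hQ hP
    (inter_hall_of_nilpotent X hH hn hP (hsol _ (PiN.of_dvd hP.1 (card_map_dvd _ _))))

/-- The same in terms of `IsDPiGroup`. -/
theorem isDPi_ext_nilpotent (X : Subgroup G) [X.Normal] {H : Subgroup X} (hH : IsPiHall π H)
    (hn : Group.IsNilpotent H) (hQ : IsDPiGroup π (G ⧸ X))
    (hsol : ∀ Y : Subgroup (G ⧸ X), PiN π (Nat.card Y) → Group.IsSolvable Y) : IsDPiGroup π G :=
  dom_iff.mpr (dom_ext_nilpotent X hH hn (dom_iff.mp hQ) hsol)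

end Cfsg.Agent.H571.DExt
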