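import Cfsg.Agent.S0506
import Cfsg.Agent.S0205
import Cfsg.Agent.Walter.PairsRot
import Cfsg.Agent.SmallSimple.BurnsideNC
import Cfsg.Agent.Schreier.SmallSylow
import Cfsg.Agent.H306.AbEight

/-!
# Abelian Sylow 2-subgroups of simple groups: the automizer (helper571)

A finite simple group with an abelian Sylow 2-subgroup `P`: `P` is cyclic or a four-group, or the group is
`PSL(2, 2^n)`, or it is of Janko-Ree type with `|N(P) : C(P)| = 21` and `N(P)/C(P)` non-abelian.
-/

set_option autoImplicit false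

namespace Cfsg.Agent.H571.AbSylTwo

open Subgroup Cfsg
open Cfsg.Agent.Walter
open Cfsg.Agent.Walter.Types

universe u

theorem wType {L : Type u} [Group L] [Finite L] [hL : IsSimpleGroup L]
    (hna : ¬ IsMulCommutative L) (S : Sylow 2 L)
    (hS : ∀ a ∈ (S : Subgroup L), ∀ b ∈ (S : Subgroup L), a * b = b * a) : WType L :=
  Cfsg.Agent.Walter.Main.wType_of_step Cfsg.Agent.Walter.StepAll.step L hL hna S hS

/-- A group of order 4 is cyclic or a Klein four-group. -/
theorem cyclic_or_klein {V : Type*} [Group V] (h : Nat.card V = 4) : IsCyclic V ∨ IsKleinFour V := by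
  have : Finite V := Nat.finite_of_card_ne_zero (by omega)
  by_cases hc : ∃ x : V, orderOf x = 4
  · obtain ⟨x, hx⟩ := hc
    left
    exact isCyclic_of_orderOf_eq_card x (by rw [hx, h])
  · right
    push Not at hc
    refine ⟨h, ?_⟩
    have h1 : ∀ x : V, x ^ 2 = 1 := by
      intro x
      have h2 : orderOf x ∣ 4 := h ▸ orderOf_dvd_natCard x
      have h3 : orderOf x ≤ 4 := Nat.le_of_dvd (by norm_num) h2
      have h4 := hc x
      have h5 := orderOf_pos x
      have h6 : orderOf x = 1 ∨ orderOf x = 2 := by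
        interval_cases h7 : orderOf x
        · exact Or.inl rfl
        · exact Or.inr rfl
        · omega
        · omega
      rcases h6 with h6 | h6
      · rw [orderOf_eq_one_iff.1 h6, one_pow]
      · rw [← h6]; exact pow_orderOf_eq_one x
    have h2 : Monoid.exponent V ∣ 2 := Monoid.exponent_dvd_of_forall_pow_eq_one h1
    rcases (Nat.dvd_prime Nat.prime_two).1 h2 with h3 | h3
    · rw [Monoid.exp_eq_one_iff] at h3
      have := Nat.card_of_subsingleton (1 : V)
      omega
    · exact h3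

variable {K : Type u} [Group K] [Finite K]

/-- If a Sylow 2-subgroup is in the centre of its normalizer then the group is solvable. -/
theorem solvable_of_burnside {D : Type*} [Group D] [Finite D] (Q : Sylow 2 D)
    (h : normalizer ((Q : Subgroup D) : Set D) ≤ centralizer ((Q : Subgroup D) : Set D)) :
    Group.IsSolvable D := by
  have hf2 : Fact (Nat.Prime 2) := ⟨Nat.prime_two⟩
  set f := MonoidHom.transferSylow Q h with hf
  have h2 : Odd (Nat.card f.ker) := by
    rw [← Nat.not_even_iff_odd, even_iff_two_dvd]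
    exact MonoidHom.not_dvd_card_ker_transferSylow Q h
  have h3 : Group.IsSolvable f.ker := Cfsg.Agent.S0205.result h2
  have h4 : Group.IsSolvable (Q : Subgroup D) := by
    have := IsPGroup.isNilpotent Q.isPGroup'
    infer_instance
  exact Group.isSolvable_of_ker_le_range f.ker.subtype f (by rw [Subgroup.range_subtype])

/-- **The Janko-Ree type.** -/
theorem jr [IsSimpleGroup K] (hna : ¬ IsMulCommutative K) (h : IsJR K) (P : Sylow 2 K) :
    (centralizer ((P : Subgroup K) : Set K)).relIndex (normalizer ((P : Subgroup K) : Set K)) = 21 ∧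
      ∃ a ∈ normalizer ((P : Subgroup K) : Set K), ∃ b ∈ normalizer ((P : Subgroup K) : Set K),
        a * b * a⁻¹ * b⁻¹ ∉ centralizer ((P : Subgroup K) : Set K) := by
  have hf2 : Fact (Nat.Prime 2) := ⟨Nat.prime_two⟩
  obtain ⟨h8, hsq⟩ := TypeSylow.card_sylow_JR h P
  have hcomm : ∀ x ∈ (P : Subgroup K), ∀ y ∈ (P : Subgroup K), x * y = y * x := by
    intro x hx y hy
    have h1 := hsq (x * y) (mul_mem hx hy)
    have h2 := hsq x hx
    have h3 := hsq y hy
    have h4 : x⁻¹ = x := inv_eq_of_mul_eq_one_left h2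
    have h5 : y⁻¹ = y := inv_eq_of_mul_eq_one_left h3
    have h6 : (x * y)⁻¹ = x * y := inv_eq_of_mul_eq_one_left h1
    rw [mul_inv_rev, h4, h5] at h6
    exact h6.symm
  have hex : ∃ a b : K, a * b ≠ b * a := by
    by_contra hno
    push Not at hno
    exact hna ⟨⟨hno⟩⟩
  set N := normalizer ((P : Subgroup K) : Set K) with hN
  set C := centralizer ((P : Subgroup K) : Set K) with hC
  obtain ⟨t, ht, ht1⟩ : ∃ v ∈ (P : Subgroup K), v ≠ 1 := by
    by_contra hno
    push Not at hno
    have : (P : Subgroup K) = ⊥ := eq_bot_iff.2 (fun x hx => hno x hx)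
    rw [this, card_bot] at h8
    omega
  have hto : orderOf t = 2 := orderOf_eq_prime (by rw [pow_two]; exact hsq t ht) ht1
  have htr := PairsRot.exists_normalizer_conj (Or.inr (Or.inr h)) hex P t ht ht1
  have h7 : (N ⊓ centralizer ({t} : Set K)).relIndex N = 8 - 1 := by
    have := Cfsg.Agent.H306.AbEight.relIndex_of_trans (N := N) (V := (P : Subgroup K))
      (fun n hn s hs => (mem_normalizer_iff.1 hn s).1 hs) ht ht1 htr
    rwa [h8] at this
  have hPC : (P : Subgroup K) ≤ C := fun x hx => mem_centralizer_iff.2 (fun y hy => hcomm y hy x hx)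
  have hCt : C ≤ centralizer ({t} : Set K) := centralizer_le (Set.singleton_subset_iff.2 ht)
  have hCN : C ≤ N := Cfsg.Agent.SmallSimple.BurnsideNC.centralizer_le_normalizer _
  -- the centralizer of `t` is not solvable
  obtain ⟨-, F, i1, i2, hF, hF5, hcen⟩ := id h
  obtain ⟨e⟩ := hcen t hto
  have hns : ¬ Group.IsSolvable (centralizer ({t} : Set K)) := by
    intro hs
    have h1 : Group.IsSolvable (Multiplicative (ZMod 2) × Matrix.ProjectiveSpecialLinearGroup (Fin 2) F) :=
      Group.isSolvable_of_surjective (f := e.toMonoidHom) e.surjective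
    have h2 : Group.IsSolvable (Matrix.ProjectiveSpecialLinearGroup (Fin 2) F) :=
      Group.isSolvable_of_surjective (f := MonoidHom.snd (Multiplicative (ZMod 2)) (Matrix.ProjectiveSpecialLinearGroup (Fin 2) F))
        Prod.snd_surjective
    exact ClassicalGeometry.PSL2Solvable.not_isSolvable_psl F (by omega) h2
  -- some element of `N ∩ C(t)` does not centralize `P`
  have hnt : ∃ n ∈ N, n * t = t * n ∧ n ∉ C := by
    by_contra hno
    push Not at hno
    apply hns
    have hPD : (P : Subgroup K) ≤ centralizer ({t} : Set K) := hPC.trans hCt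
    set D := centralizer ({t} : Set K) with hD
    refine solvable_of_burnside (P.subtype hPD) ?_
    intro x hx
    rw [mem_centralizer_iff]
    have h1 : (x : K) ∈ N := by
      rw [hN, mem_normalizer_iff]
      intro y
      constructor
      · intro hy
        have h2 := (mem_normalizer_iff.1 hx ⟨y, hPD hy⟩).1 (by exact hy)
        exact h2
      · intro hy
        have hyD : y ∈ D := by
          have h3 := hPD hy
          have h4 := mul_mem (mul_mem (inv_mem x.2) h3) x.2
          have e1 : (x : K)⁻¹ * (x * y * (x : K)⁻¹) * x = y := by group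
          rwa [e1] at h4
        exact (mem_normalizer_iff.1 hx ⟨y, hyD⟩).2 hy
    have h2 : (x : K) * t = t * x := mem_centralizer_singleton_iff.1 x.2
    have h3 := hno x h1 h2
    intro y hy
    exact Subtype.ext (mem_centralizer_iff.1 h3 y hy)
  obtain ⟨n, hn, hnt, hnC⟩ := hnt
  have hdvd : C.relIndex N ∣ 168 := by
    have h1 := Cfsg.Agent.SmallSimple.BurnsideNC.relIndex_dvd_card_mulAut (P : Subgroup K)
    let _ : CommGroup (P : Subgroup K) := { (inferInstance : Group (P : Subgroup K)) with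
      mul_comm := fun a b => Subtype.ext (hcomm a a.2 b b.2) }
    have h2 := Cfsg.Agent.Schreier.SmallSylow.card_mulAut_eight (V := (P : Subgroup K))
      (fun x => by rw [pow_two]; exact Subtype.ext (hsq x x.2)) h8
    rw [h2] at h1
    exact h1
  have hCNt : C ≤ N ⊓ centralizer ({t} : Set K) := le_inf hCN hCt
  have hmul : C.relIndex (N ⊓ centralizer ({t} : Set K)) * 7 = C.relIndex N := by
    have h1 := relIndex_mul_relIndex C (N ⊓ centralizer ({t} : Set K)) N hCNt inf_le_left
    rw [h7] at h1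
    exact h1
  set k := C.relIndex (N ⊓ centralizer ({t} : Set K)) with hk
  have hk1 : k ≠ 1 := by
    intro h1
    have h2 := relIndex_eq_one.1 h1
    exact hnC (h2 ⟨hn, mem_centralizer_singleton_iff.2 hnt⟩)
  have hodd : ¬ 2 ∣ C.relIndex N := by
    intro h1
    apply P.not_dvd_index
    exact (h1.trans (relIndex_dvd_index_of_le hCN)).trans (index_dvd_of_le hPC)
  have hk3 : k = 3 := by
    rw [← hmul] at hdvd hodd
    have h1 : k ∣ 24 := by
      obtain ⟨c, hc⟩ := hdvd
      refine ⟨c, ?_⟩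
      have : 7 * 24 = 7 * (k * c) := by rw [show 7 * 24 = 168 from rfl, hc]; ring
      exact Nat.eq_of_mul_eq_mul_left (by norm_num) this
    have h2 : k ≤ 24 := Nat.le_of_dvd (by norm_num) h1
    have h3 : ¬ 2 ∣ k := fun h => hodd (h.mul_right 7)
    interval_cases k <;> omega
  refine ⟨by rw [← hmul, hk3], ?_⟩
  by_contra hno
  push Not at hno
  apply hnC
  rw [mem_centralizer_iff]
  intro s hs
  by_cases hs1 : s = 1
  · rw [hs1, one_mul, mul_one]
  obtain ⟨m, hm, hms⟩ := htr s hs hs1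
  -- `n m n⁻¹ m⁻¹` centralizes `s`
  have h1 := mem_centralizer_iff.1 (hno n hn m hm) s hs
  have h2 : n * s * n⁻¹ = (n * m * n⁻¹ * m⁻¹) * s * (n * m * n⁻¹ * m⁻¹)⁻¹ := by
    rw [← hms]
    have h3 : n * t * n⁻¹ = t := by rw [hnt]; group
    have h4 : n⁻¹ * t * n = t := by
      have : n⁻¹ * (n * t) = n⁻¹ * (t * n) := by rw [hnt]
      rw [inv_mul_cancel_left] at this
      rw [mul_assoc]; exact this.symm
    calc n * (m * t * m⁻¹) * n⁻¹ = n * m * t * m⁻¹ * n⁻¹ := by group
      _ = n * m * (n⁻¹ * t * n) * m⁻¹ * n⁻¹ := by rw [h4]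
      _ = _ := by group
  rw [← h1, mul_inv_cancel_right] at h2
  rw [mul_inv_eq_iff_eq_mul] at h2
  exact h2.symm

theorem charP_two {F : Type*} [Field F] [Fintype F] {n : ℕ} (hF : Fintype.card F = 2 ^ n) : CharP F 2 := by
  have hn : n ≠ 0 := by
    rintro rfl
    have := Fintype.one_lt_card (α := F)
    omega
  obtain ⟨p, hp⟩ := CharP.exists F
  obtain ⟨m, hpp, hpm⟩ := FiniteField.card F p
  have h3 : (2 : ℕ) ∣ p ^ (m : ℕ) := by
    rw [← hpm, hF]
    exact dvd_pow_self 2 hn
  have h4 := (Nat.prime_dvd_prime_iff_eq Nat.prime_two hpp).mp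
    (Nat.Prime.dvd_of_dvd_pow Nat.prime_two h3)
  rw [h4]; exact hp

/-- **Simple groups with abelian Sylow 2-subgroups.** -/
theorem main [IsSimpleGroup K] (P : Sylow 2 K) (hP : IsMulCommutative (P : Subgroup K)) :
    IsCyclic (P : Subgroup K) ∨ IsKleinFour (P : Subgroup K) ∨
    (∃ (F : Type) (_ : Field F) (_ : Fintype F), CharP F 2 ∧
      Nonempty (K ≃* Matrix.ProjectiveSpecialLinearGroup (Fin 2) F)) ∨
    ((Cfsg.IsJ1 K ∨ Cfsg.IsRee K) ∧
      (centralizer ((P : Subgroup K) : Set K)).relIndex (normalizer ((P : Subgroup K) : Set K)) = 21 ∧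
      ∃ a ∈ normalizer ((P : Subgroup K) : Set K), ∃ b ∈ normalizer ((P : Subgroup K) : Set K),
        a * b * a⁻¹ * b⁻¹ ∉ centralizer ((P : Subgroup K) : Set K)) := by
  by_cases hna : IsMulCommutative K
  · left
    have : IsCyclic K := by
      let _ : CommGroup K := { (inferInstance : Group K) with mul_comm := fun a b => hna.is_comm.comm a b }
      exact IsSimpleGroup.isCyclic
    infer_instance
  have hcomm : ∀ a ∈ (P : Subgroup K), ∀ b ∈ (P : Subgroup K), a * b = b * a :=
    fun x hx y hy => congrArg Subtype.val (hP.is_comm.comm ⟨x, hx⟩ ⟨y, hy⟩)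
  rcases wType hna P hcomm with ⟨F, i1, i2, n, -, hF, e⟩ | ⟨F, i1, i2, hF, -, ⟨e⟩⟩ | h
  · exact Or.inr (Or.inr (Or.inl ⟨F, i1, i2, charP_two hF, e⟩))
  · rcases cyclic_or_klein (TypeSylow.card_sylow_odd hF e P) with h | h
    · exact Or.inl h
    · exact Or.inr (Or.inl h)
  · rcases Cfsg.Agent.S0506.result hna P hP with ⟨n, -, F, i1, i2, hF, e⟩ | ⟨F, i1, i2, hF, ⟨e⟩⟩ | h1 | h1
    · exact Or.inr (Or.inr (Or.inl ⟨F, i1, i2, charP_two hF, e⟩))
    · rcases cyclic_or_klein (TypeSylow.card_sylow_odd hF e P) with h | h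
      · exact Or.inl h
      · exact Or.inr (Or.inl h)
    · exact Or.inr (Or.inr (Or.inr ⟨Or.inr h1, jr hna h P⟩))
    · exact Or.inr (Or.inr (Or.inr ⟨Or.inl h1, jr hna h P⟩))

/-- For an abelian Sylow subgroup `P` for an odd prime, a real `p`-element makes `|N(P) : C(P)|` even. -/
theorem even_of_real {p : ℕ} [hp : Fact p.Prime] (hp2 : p ≠ 2) (P : Sylow p K)
    (hP : IsMulCommutative (P : Subgroup K)) {x : K} (hx : orderOf x = p) (hr : IsConj x x⁻¹) :
    2 ∣ (centralizer ((P : Subgroup K) : Set K)).relIndex (normalizer ((P : Subgroup K) : Set K)) := by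
  -- conjugate `x` into `P`
  obtain ⟨g, hg⟩ : ∃ g : K, g * x * g⁻¹ ∈ (P : Subgroup K) := by
    have h1 : IsPGroup p (zpowers x) := by
      refine IsPGroup.of_card (n := 1) ?_
      rw [Nat.card_zpowers, hx, pow_one]
    obtain ⟨Q, hQ⟩ := h1.exists_le_sylow
    obtain ⟨g, rfl⟩ := MulAction.exists_smul_eq K Q P
    refine ⟨g, ?_⟩
    rw [Sylow.coe_subgroup_smul]
    have := Subgroup.smul_mem_pointwise_smul x (MulAut.conj g) (Q : Subgroup K) (hQ (mem_zpowers x))
    simpa [MulAut.smul_def] using this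
  set y := g * x * g⁻¹ with hy
  have hyo : orderOf y = p := by
    rw [← hx, hy]
    exact orderOf_injective (MulAut.conj g).toMonoidHom (MulAut.conj g).injective x
  obtain ⟨c, hc⟩ := isConj_iff.1 hr
  have hyc : (g * c⁻¹ * g⁻¹)⁻¹ * y * (g * c⁻¹ * g⁻¹) = y⁻¹ := by
    have : x⁻¹ = c * x * c⁻¹ := hc.symm
    calc (g * c⁻¹ * g⁻¹)⁻¹ * y * (g * c⁻¹ * g⁻¹) = g * (c * x * c⁻¹) * g⁻¹ := by rw [hy]; group
      _ = g * x⁻¹ * g⁻¹ := by rw [hc]
      _ = y⁻¹ := by rw [hy]; group
  obtain ⟨n, hn, hnn⟩ := P.conj_eq_normalizer_conj_of_mem y (g * c⁻¹ * g⁻¹) hg (by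
    rw [hyc]; exact inv_mem hg)
  rw [hyc] at hnn
  -- `n⁻¹` inverts `y`
  have hinv : n⁻¹ * y * n = y⁻¹ := hnn.symm
  by_contra hodd
  rw [← even_iff_two_dvd, Nat.not_even_iff_odd] at hodd
  set N := normalizer ((P : Subgroup K) : Set K) with hN
  set C := centralizer ((P : Subgroup K) : Set K) with hC
  have hnorm : (C.subgroupOf N).Normal := by
    rw [hC, hN]
    infer_instance
  have hpow : (n⁻¹) ^ (C.relIndex N) ∈ C := by
    have h1 := Subgroup.pow_index_mem (C.subgroupOf N) (⟨n⁻¹, inv_mem hn⟩ : N)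
    exact h1
  have hfix := mem_centralizer_iff.1 hpow y hg
  obtain ⟨k, hk⟩ := hodd
  have hsq : ∀ j : ℕ, (n⁻¹) ^ (2 * j) * y = y * (n⁻¹) ^ (2 * j) := by
    have h2 : (n⁻¹) ^ 2 * y = y * (n⁻¹) ^ 2 := by
      have h3 : n⁻¹ * y = y⁻¹ * n⁻¹ := by
        rw [← hinv]; group
      have h4 : n⁻¹ * y⁻¹ = y * n⁻¹ := by
        have h5 : n⁻¹ * y⁻¹ * n = y := by
          have := congrArg (fun z => z⁻¹) hinv
          simp only [mul_inv_rev, inv_inv] at this
          rw [← mul_assoc] at this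
          exact this
        calc n⁻¹ * y⁻¹ = (n⁻¹ * y⁻¹ * n) * n⁻¹ := by group
          _ = y * n⁻¹ := by rw [h5]
      calc (n⁻¹) ^ 2 * y = n⁻¹ * (n⁻¹ * y) := by rw [pow_two, mul_assoc]
        _ = n⁻¹ * y⁻¹ * n⁻¹ := by rw [h3, mul_assoc]
        _ = y * n⁻¹ * n⁻¹ := by rw [h4]
        _ = y * (n⁻¹) ^ 2 := by rw [pow_two, mul_assoc]
    intro j
    rw [pow_mul]
    exact ((show Commute ((n⁻¹) ^ 2) y from h2).pow_left j)
  rw [hk, pow_succ] at hfix
  have h6 : y * ((n⁻¹) ^ (2 * k) * n⁻¹) = (n⁻¹) ^ (2 * k) * (n⁻¹ * y⁻¹) := by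
    have h5 : n⁻¹ * y⁻¹ = y * n⁻¹ := by
      have h7 : n⁻¹ * y⁻¹ * n = y := by
        have := congrArg (fun z => z⁻¹) hinv
        simp only [mul_inv_rev, inv_inv] at this
        rw [← mul_assoc] at this
        exact this
      calc n⁻¹ * y⁻¹ = (n⁻¹ * y⁻¹ * n) * n⁻¹ := by group
        _ = y * n⁻¹ := by rw [h7]
    rw [h5, ← mul_assoc, ← mul_assoc, hsq k]
  rw [h6, mul_assoc] at hfix
  have h8 := mul_left_cancel (mul_left_cancel hfix)
  -- `y⁻¹ = y`
  have h9 : y ^ 2 = 1 := by
    rw [pow_two]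
    calc y * y = y * y⁻¹ := by rw [h8]
      _ = 1 := mul_inv_cancel y
  have h10 : p ∣ 2 := hyo ▸ orderOf_dvd_of_pow_eq_one h9
  exact hp2 ((Nat.prime_dvd_prime_iff_eq hp.out Nat.prime_two).1 h10)

end Cfsg.Agent.H571.AbSylTwo
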