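import Cfsg.Agent.H571.DExtA
import Cfsg.Agent.H569.PiHall
import Cfsg.Agent.S4309

/-!
# `D_π` and extensions: general tools (helper571)

* `Dom π G` : there is a Hall `π`-subgroup containing a conjugate of every `π`-subgroup; `dom_iff`;
* `maximal_hall_of_compl` : Schur–Zassenhaus for maximal `π`-subgroups;
* `hall_of_inter` : `C_π(X)`, `D_π(G/X)`; a maximal `π`-subgroup `P` of `G` with `P ∩ X` a Hall subgroup of `X` is a Hall
  subgroup of `G`.
-/

set_option autoImplicit false

namespace Cfsg.Agent.H571.DExt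

open Subgroup Cfsg Cfsg.Agent.H988.CPi Cfsg.Agent.Solvable.SZ
open scoped Pointwise

variable {π : Set ℕ} {G : Type*} [Group G]

/-- There is a Hall `π`-subgroup containing a conjugate of every `π`-subgroup. -/
def Dom (π : Set ℕ) (G : Type*) [Group G] : Prop :=
  ∃ L : Subgroup G, IsPiHall π L ∧ ∀ K : Subgroup G, PiN π (Nat.card K) → ∃ g : G, K ≤ MulAut.conj g • L

variable [Finite G]

theorem dom_iff : IsDPiGroup π G ↔ Dom π G := by
  constructor
  · intro h
    obtain ⟨L, -, hL⟩ := Finite.exists_le_maximal (p := IsPiSubgroup π) (a := (⊥ : Subgroup G))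
      (fun p hp hd => by rw [Subgroup.card_bot] at hd; exact absurd (Nat.dvd_one.1 hd) hp.ne_one)
    have hdom : ∀ K : Subgroup G, PiN π (Nat.card K) → ∃ g : G, K ≤ MulAut.conj g • L := by
      intro K hK
      obtain ⟨g, hg⟩ := Cfsg.Agent.H569.PiHall.exists_conj_of_isDPiGroup h hL hK
      refine ⟨g, fun x hx => ?_⟩
      rw [← conj_eq, Cfsg.Agent.H569.PiHall.mem_map_conj_iff]
      exact hg x hx
    refine ⟨L, ⟨hL.1, ?_⟩, hdom⟩
    intro p hp hpπ hd
    have := Fact.mk hp
    obtain ⟨P⟩ : Nonempty (Sylow p G) := inferInstance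
    have hPπ : PiN π (Nat.card (P : Subgroup G)) := by
      intro q hq hqd
      obtain ⟨k, hk⟩ := IsPGroup.iff_card.mp P.isPGroup'
      rw [hk] at hqd
      rwa [(Nat.prime_dvd_prime_iff_eq hq hp).mp (hq.dvd_of_dvd_pow hqd)]
    obtain ⟨g, hg⟩ := hdom P hPπ
    have h1 : p ∣ (MulAut.conj g • L : Subgroup G).index := by
      rw [← conj_eq]
      exact (index_map_equiv L (MulAut.conj g)).symm ▸ hd
    exact P.not_dvd_index (h1.trans (index_dvd_of_le hg))
  · rintro ⟨L, hL, h⟩
    refine Cfsg.Agent.H569.PiHall.isDPiGroup_of_forall (H := L) hL.1 fun K hK => ?_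
    obtain ⟨g, hg⟩ := h K hK
    refine ⟨g, fun x hx => ?_⟩
    have h1 := hg hx
    rwa [← conj_eq, Cfsg.Agent.H569.PiHall.mem_map_conj_iff] at h1

theorem Dom.cpi (h : Dom π G) : IsCPiGroup π G := by
  obtain ⟨L, hL, hdom⟩ := h
  refine ⟨⟨L, hL⟩, fun H K hH hK => ?_⟩
  have key : ∀ H : Subgroup G, IsPiHall π H → ∃ g : G, H = MulAut.conj g • L := by
    intro H hH
    obtain ⟨g, hg⟩ := hdom H hH.1
    refine ⟨g, eq_of_le_of_card_ge hg ?_⟩
    rw [card_conj_smul]
    exact le_of_eq (mul_unique hL.1 hL.2 hH.1 hH.2 (by rw [card_mul_index, card_mul_index]))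
  obtain ⟨a, ha⟩ := key H hH
  obtain ⟨b, hb⟩ := key K hK
  refine ⟨b * a⁻¹, ?_⟩
  rw [conj_eq, ha, ← mul_smul, ← map_mul, inv_mul_cancel_right]
  exact hb

/-- `D_π` from `C_π` and: all maximal `π`-subgroups are Hall subgroups. -/
theorem dom_of_maximal (hC : IsCPiGroup π G)
    (h : ∀ P : Subgroup G, Maximal (IsPiSubgroup π) P → IsPiHall π P) : Dom π G := by
  obtain ⟨L, hL⟩ := hC.1
  refine ⟨L, hL, fun K hK => ?_⟩
  obtain ⟨P, hKP, hP⟩ := Finite.exists_le_maximal (p := IsPiSubgroup π) (a := K) hK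
  obtain ⟨g, hg⟩ := hC.2 L P hL (h P hP)
  exact ⟨g, by rw [← conj_eq, ← hg]; exact hKP⟩

theorem Dom.maximal_hall (h : Dom π G) {P : Subgroup G} (hP : Maximal (IsPiSubgroup π) P) : IsPiHall π P := by
  obtain ⟨L, hL, hdom⟩ := h
  obtain ⟨g, hg⟩ := hdom P hP.1
  have h1 : IsPiSubgroup π (MulAut.conj g • L : Subgroup G) := by
    intro p hp hd
    rw [card_conj_smul] at hd
    exact hL.1 p hp hd
  rw [le_antisymm hg (hP.2 h1 hg)]
  exact isPiHall_smul hL g

theorem relIndex_sup' (H A : Subgroup G) [A.Normal] : H.relIndex (H ⊔ A) = H.relIndex A := by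
  have h1 := relIndex_mul_sup_index H A
  have h2 := relIndex_mul_index (le_sup_left : H ≤ H ⊔ A)
  exact Nat.eq_of_mul_eq_mul_right (Nat.pos_of_ne_zero index_ne_zero_of_finite) (h2.trans h1.symm)

omit [Finite G] in
theorem modular (L M N : Subgroup G) [N.Normal] (hNM : N ≤ M) (hLN : M ≤ L ⊔ N) : (L ⊓ M) ⊔ N = M := by
  apply le_antisymm (sup_le inf_le_right hNM)
  intro m hm
  have h1 : m ∈ ((L ⊔ N : Subgroup G) : Set G) := hLN hm
  rw [Subgroup.mul_normal] at h1
  obtain ⟨l, hl, n, hn, rfl⟩ := h1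
  refine mul_mem_sup (mem_inf.mpr ⟨hl, ?_⟩) hn
  have := M.mul_mem hm (M.inv_mem (hNM hn))
  simpa using this

theorem conj_of_cpi {M H K : Subgroup G} (hM : IsCPiGroup π M) (hH : H ≤ M) (hK : K ≤ M)
    (h1 : PiN π (Nat.card H)) (h2 : PiN' π (H.relIndex M)) (h3 : PiN π (Nat.card K)) (h4 : PiN' π (K.relIndex M)) :
    ∃ g ∈ M, MulAut.conj g • H = K := by
  have key : ∀ X : Subgroup G, X ≤ M → PiN π (Nat.card X) → PiN' π (X.relIndex M) → IsPiHall π (X.subgroupOf M) := by
    intro X hX h h'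
    refine ⟨?_, h'⟩
    have : PiN π (Nat.card (X.subgroupOf M)) := by rw [card_subgroupOf _ _ hX]; exact h
    exact this
  obtain ⟨g, hg⟩ := hM.2 _ _ (key H hH h1 h2) (key K hK h3 h4)
  rw [conj_eq] at hg
  exact conj_of_subgroupOf M H K hH hK ⟨g, hg.symm⟩

/-- **Schur–Zassenhaus**: `N` a normal `π'`-subgroup with `π`-quotient; maximal `π`-subgroups are Hall. -/
theorem maximal_hall_of_compl (N : Subgroup G) [N.Normal] (h1 : PiN' π (Nat.card N)) (h2 : PiN π N.index)
    {P : Subgroup G} (hP : Maximal (IsPiSubgroup π) P) : IsPiHall π P := by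
  obtain ⟨L, hL⟩ := (cpi_of_compl N h1 h2).1
  have hLN : L ⊔ N = ⊤ := by
    rw [← index_eq_one]
    exact eq_one_of_both (h2.of_dvd (index_dvd_of_le le_sup_right)) (PiN'.of_dvd hL.2 (index_dvd_of_le le_sup_left))
  set M := P ⊔ N with hM
  have hNM : N ≤ M := le_sup_right
  have hmod : (L ⊓ M) ⊔ N = M := modular L M N hNM (by rw [hLN]; exact le_top)
  have cM : IsCPiGroup π M := by
    apply cpi_of_compl (N.subgroupOf M)
    · rw [card_subgroupOf _ _ hNM]; exact h1
    · exact h2.of_dvd (relIndex_dvd_index_of_normal N M)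
  obtain ⟨g, hg, hg'⟩ := conj_of_cpi (H := P) (K := L ⊓ M) cM le_sup_left inf_le_right hP.1
    (by rw [hM, relIndex_sup' P N]; exact PiN'.of_dvd h1 (relIndex_dvd_card P N))
    (PiN.of_dvd hL.1 (card_dvd_of_le inf_le_left))
    (by
      have h3 := relIndex_sup' (L ⊓ M) N
      rw [hmod] at h3
      rw [h3]
      exact PiN'.of_dvd h1 (relIndex_dvd_card _ N))
  have h5 : P ≤ MulAut.conj g⁻¹ • L := by
    have h6 : P = MulAut.conj g⁻¹ • (L ⊓ M) := by
      rw [← hg', ← mul_smul, ← map_mul, inv_mul_cancel, map_one, one_smul]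
    rw [h6]
    exact smul_mono_right _ inf_le_left
  have h7 : IsPiSubgroup π (MulAut.conj g⁻¹ • L : Subgroup G) := by
    intro p hp hd
    rw [card_conj_smul] at hd
    exact hL.1 p hp hd
  rw [le_antisymm h5 (hP.2 h7 h5)]
  exact isPiHall_smul hL g⁻¹

omit [Finite G] in
theorem piN_sup {P Y : Subgroup G} (hPY : P ≤ normalizer (Y : Set G)) (hP : PiN π (Nat.card P))
    (hY : PiN π (Nat.card Y)) : PiN π (Nat.card (P ⊔ Y : Subgroup G)) := by
  set M := P ⊔ Y with hM
  have hYM : Y ≤ M := le_sup_right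
  have hn : (Y.subgroupOf M).Normal :=
    (normal_subgroupOf_iff_le_normalizer hYM).mpr (sup_le hPY le_normalizer)
  have h1 : P.subgroupOf M ⊔ Y.subgroupOf M = ⊤ := by
    rw [← Subgroup.subgroupOf_sup le_sup_left hYM]
    exact Subgroup.subgroupOf_self _
  have h2 := relIndex_sup_right (P.subgroupOf M) (Y.subgroupOf M)
  rw [h1, relIndex_top_right] at h2
  have h3 : Nat.card M = Nat.card Y * (Y.subgroupOf M).index := by
    rw [← card_subgroupOf _ _ hYM, card_mul_index]
  rw [h3, h2]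
  refine hY.mul (hP.of_dvd ?_)
  rw [← card_subgroupOf P M le_sup_left]
  exact relIndex_dvd_card _ _

omit [Finite G] in
/-- A maximal `π`-subgroup contains every `π`-subgroup which it normalises. -/
theorem le_of_maximal {P Y : Subgroup G} (hP : Maximal (IsPiSubgroup π) P) (hPY : P ≤ normalizer (Y : Set G))
    (hY : PiN π (Nat.card Y)) : Y ≤ P :=
  le_sup_right.trans (hP.2 (show IsPiSubgroup π (P ⊔ Y) from piN_sup hPY hP.1 hY) le_sup_left)

theorem card_comap_mk (S : Subgroup G) [S.Normal] (Y : Subgroup (G ⧸ S)) :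
    Nat.card (Y.comap (QuotientGroup.mk' S)) = Nat.card S * Nat.card Y := by
  have h4 := card_mul_index (Y.comap (QuotientGroup.mk' S))
  rw [index_comap_of_surjective _ (QuotientGroup.mk'_surjective S)] at h4
  have h5 := card_mul_index Y
  have h6 := card_mul_index S
  have h7 : Nat.card (G ⧸ S) = S.index := rfl
  rw [h7] at h5
  have h8 : Y.index ≠ 0 := index_ne_zero_of_finite
  apply Nat.eq_of_mul_eq_mul_right (Nat.pos_of_ne_zero h8)
  rw [h4, mul_assoc, h5, h6]

theorem maximal_map_mk (S : Subgroup G) [S.Normal] (hS : PiN π (Nat.card S)) {P : Subgroup G}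
    (hP : Maximal (IsPiSubgroup π) P) : S ≤ P ∧ Maximal (IsPiSubgroup π) (P.map (QuotientGroup.mk' S)) := by
  have hSP : S ≤ P := le_of_maximal hP (by rw [normalizer_eq_top]; exact le_top) hS
  refine ⟨hSP, ?_, ?_⟩
  · exact PiN.of_dvd hP.1 (card_map_dvd _ _)
  · intro Y hY hPY
    have h1 : P ≤ Y.comap (QuotientGroup.mk' S) := map_le_iff_le_comap.mp hPY
    have h2 : IsPiSubgroup π (Y.comap (QuotientGroup.mk' S)) := by
      have h3 : PiN π (Nat.card (Y.comap (QuotientGroup.mk' S))) := by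
        rw [card_comap_mk]; exact hS.mul hY
      exact h3
    have h3 := hP.2 h2 h1
    rw [← map_comap_eq_self_of_surjective (QuotientGroup.mk'_surjective S) Y]
    exact map_mono h3

/-- normal series `π`, `π'`, `π`: maximal `π`-subgroups are Hall -/
theorem maximal_hall_of_chain (S B : Subgroup G) [S.Normal] [B.Normal] (hSB : S ≤ B) (h1 : PiN π (Nat.card S))
    (h2 : PiN' π (S.relIndex B)) (h3 : PiN π B.index) {P : Subgroup G} (hP : Maximal (IsPiSubgroup π) P) :
    IsPiHall π P := by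
  obtain ⟨hSP, hP'⟩ := maximal_map_mk S h1 hP
  have : (B.map (QuotientGroup.mk' S)).Normal := Normal.map inferInstance _ (QuotientGroup.mk'_surjective S)
  have h4 : (B.map (QuotientGroup.mk' S)).index = B.index :=
    index_map_eq _ (QuotientGroup.mk'_surjective S) (by rw [QuotientGroup.ker_mk']; exact hSB)
  have h5 := card_mul_index (B.map (QuotientGroup.mk' S))
  have h6 : Nat.card (G ⧸ S) = S.index := rfl
  rw [h4, h6, ← relIndex_mul_index hSB] at h5
  have h7 : B.index ≠ 0 := index_ne_zero_of_finite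
  have h8 := maximal_hall_of_compl (B.map (QuotientGroup.mk' S))
    (by rw [Nat.eq_of_mul_eq_mul_right (Nat.pos_of_ne_zero h7) h5]; exact h2) (by rw [h4]; exact h3) hP'
  refine ⟨hP.1, ?_⟩
  have h9 : (P.map (QuotientGroup.mk' S)).index = P.index :=
    index_map_eq _ (QuotientGroup.mk'_surjective S) (by rw [QuotientGroup.ker_mk']; exact hSP)
  have h10 : PiN' π P.index := by rw [← h9]; exact h8.2
  exact h10

omit [Finite G] in
theorem maximal_subgroupOf {P M : Subgroup G} (hP : Maximal (IsPiSubgroup π) P) (hPM : P ≤ M) :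
    Maximal (IsPiSubgroup π) (P.subgroupOf M) := by
  refine ⟨?_, fun Y hY hle => ?_⟩
  · have h1 : PiN π (Nat.card (P.subgroupOf M)) := by rw [card_subgroupOf _ _ hPM]; exact hP.1
    exact h1
  · have h2 : IsPiSubgroup π (Y.map M.subtype) := by
      have h1 : PiN π (Nat.card (Y.map M.subtype)) := by
        rw [card_map_of_injective M.subtype_injective]; exact hY
      exact h1
    have h3 : P ≤ Y.map M.subtype := by
      have := map_mono (f := M.subtype) hle
      rwa [subgroupOf_map_subtype, inf_of_le_left hPM] at this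
    have h4 := hP.2 h2 h3
    intro y hy
    exact h4 ⟨y, hy, rfl⟩

/-- `C_π(X)`, `D_π(G/X)`: a maximal `π`-subgroup `P` of `G` with `P ∩ X` Hall in `X` is Hall in `G`. -/
theorem hall_of_inter (X : Subgroup G) [X.Normal] (hX : IsCPiGroup π X) (hQ : Dom π (G ⧸ X)) {P : Subgroup G}
    (hP : Maximal (IsPiSubgroup π) P) (hPX : PiN' π ((P ⊓ X).relIndex X)) : IsPiHall π P := by
  set S := P ⊓ X with hS
  have hSX : S ≤ X := inf_le_right
  have hSπ : PiN π (Nat.card S) := PiN.of_dvd hP.1 (card_dvd_of_le inf_le_left)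
  -- a Hall subgroup of the quotient containing the image of `P`
  obtain ⟨L₀, hL₀, hdom⟩ := hQ
  obtain ⟨g, hg⟩ := hdom (P.map (QuotientGroup.mk' X)) (PiN.of_dvd hP.1 (card_map_dvd _ _))
  have hL1 : IsPiHall π (MulAut.conj g • L₀ : Subgroup (G ⧸ X)) := isPiHall_smul hL₀ g
  set L₁ := (MulAut.conj g • L₀ : Subgroup (G ⧸ X)) with hL₁
  set L := L₁.comap (QuotientGroup.mk' X) with hL
  have hPL : P ≤ L := map_le_iff_le_comap.mp hg
  have hXL : X ≤ L := by
    intro a ha
    have : (QuotientGroup.mk' X) a = 1 := (QuotientGroup.eq_one_iff a).mpr ha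
    show (QuotientGroup.mk' X) a ∈ L₁
    rw [this]
    exact one_mem _
  have hLi : L.index = L₁.index := index_comap_of_surjective _ (QuotientGroup.mk'_surjective X)
  have hLX : PiN π (X.relIndex L) := by
    have h1 := relIndex_mul_index hXL
    have h2 : X.index = Nat.card (G ⧸ X) := rfl
    rw [hLi, h2, ← card_mul_index L₁] at h1
    rw [Nat.eq_of_mul_eq_mul_right (Nat.pos_of_ne_zero index_ne_zero_of_finite) h1]
    exact hL1.1
  set M := normalizer (S : Set G) ⊓ L with hM
  have hPN : P ≤ normalizer (S : Set G) := by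
    rw [le_normalizer_iff]
    intro h hh k hk
    exact ⟨P.mul_mem (P.mul_mem hh hk.1) (P.inv_mem hh), (inferInstance : X.Normal).conj_mem k hk.2 h⟩
  have hPM : P ≤ M := le_inf hPN hPL
  have hSM : S ≤ M := inf_le_left.trans hPM
  have hsup := sup_normalizer X L S hXL hSX hSπ hPX hX
  have n1 : (S.subgroupOf M).Normal := (normal_subgroupOf_iff_le_normalizer hSM).mpr inf_le_left
  have n2 : (X.subgroupOf M).Normal := inferInstance
  have hHall : IsPiHall π (P.subgroupOf M) := by
    apply maximal_hall_of_chain (S.subgroupOf M) (X.subgroupOf M) (fun x hx => hSX hx)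
    · rw [card_subgroupOf _ _ hSM]; exact hSπ
    · have h1 : (S.subgroupOf M).relIndex (X.subgroupOf M) = S.relIndex (X ⊓ M) := by
        rw [← inf_subgroupOf_right X M, relIndex_subgroupOf inf_le_right]
      rw [h1]
      refine PiN'.of_dvd hPX ?_
      have := relIndex_mul_relIndex S (X ⊓ M) X (le_inf hSX hSM) inf_le_left
      exact ⟨_, this.symm⟩
    · have h2 : (X.subgroupOf M).index = X.relIndex M := rfl
      rw [h2]
      refine PiN.of_dvd hLX ?_
      rw [← relIndex_sup_right M X, ← relIndex_mul_relIndex X (M ⊔ X) L le_sup_right (sup_le inf_le_right hXL)]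
      exact dvd_mul_right _ _
    · exact maximal_subgroupOf hP hPM
  refine ⟨hP.1, ?_⟩
  have h3 : PiN' π P.index := by
    rw [← relIndex_mul_index hPL, ← relIndex_mul_relIndex P M L hPM inf_le_right]
    refine PiN'.mul (PiN'.mul hHall.2 ?_) (by rw [hLi]; exact hL1.2)
    have h4 : M.relIndex L = M.relIndex X := by
      have h5 := relIndex_sup' M X
      rwa [sup_comm, hsup] at h5
    rw [h4]
    exact PiN'.of_dvd hPX (relIndex_dvd_of_le_left X hSM)
  exact h3

end Cfsg.Agent.H571.DExt
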