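import Cfsg.Agent.H571.JUnit

/-!
# The standard unitary group by matrices; diagonal matrices (helper571)
-/

set_option autoImplicit false

namespace Cfsg.Agent.H571.JUnit

open Cfsg Matrix

section

variable {n : ℕ} {F : Type*} [Field F]

theorem form_eq {q : ℕ} {σ : F ≃+* F} (hσ : ∀ x, σ x = x ^ q) (u v : Fin n → F) :
    hermForm n F q u v = u ⬝ᵥ (fun i => σ (v i)) := by
  unfold hermForm dotProduct
  exact Finset.sum_congr rfl fun i _ => by simp only [hσ]

theorem comp_mulVec (σ : F ≃+* F) (M : Matrix (Fin n) (Fin n) F) (v : Fin n → F) :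
    (fun i => σ ((M *ᵥ v) i)) = (M.map σ) *ᵥ (fun i => σ (v i)) := by
  funext i
  change σ (∑ j, M i j * v j) = ∑ j, σ (M i j) * σ (v j)
  rw [map_sum]
  exact Finset.sum_congr rfl fun j _ => map_mul σ _ _

theorem form_mulVec {q : ℕ} {σ : F ≃+* F} (hσ : ∀ x, σ x = x ^ q) (M : Matrix (Fin n) (Fin n) F)
    (u v : Fin n → F) :
    hermForm n F q (M *ᵥ u) (M *ᵥ v) = u ⬝ᵥ ((Mᵀ * M.map σ) *ᵥ (fun i => σ (v i))) := by
  rw [form_eq hσ, comp_mulVec, ← Matrix.mulVec_mulVec, Matrix.dotProduct_mulVec u, Matrix.vecMul_transpose]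

/-- `GU` by matrices. -/
theorem mem_GU_iff {q : ℕ} {σ : F ≃+* F} (hσ : ∀ x, σ x = x ^ q) {g : GL (Fin n) F} :
    g ∈ Cfsg.GU n F q ↔ g ∈ UU (Fin n) σ := by
  rw [mem_UU]
  constructor
  · intro h
    have h0 : ∀ u v, hermForm n F q ((g : Matrix (Fin n) (Fin n) F) *ᵥ u)
        ((g : Matrix (Fin n) (Fin n) F) *ᵥ v) = hermForm n F q u v := h
    ext i k
    have h1 := h0 (Pi.single i 1) (Pi.single k 1)
    rw [form_mulVec hσ, form_eq hσ] at h1
    have h2 : (fun l => σ ((Pi.single k 1 : Fin n → F) l)) = Pi.single k 1 := by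
      funext l
      by_cases hl : l = k
      · subst hl; simp
      · simp [Pi.single_eq_of_ne hl]
    rw [h2] at h1
    rw [single_dotProduct, one_mul, single_dotProduct, one_mul, Matrix.mulVec_single_one] at h1
    rw [Matrix.col_apply] at h1
    rw [h1, Matrix.one_apply, Pi.single_apply]
  · intro h u v
    change hermForm n F q ((g : Matrix (Fin n) (Fin n) F) *ᵥ u)
        ((g : Matrix (Fin n) (Fin n) F) *ᵥ v) = hermForm n F q u v
    rw [form_mulVec hσ, form_eq hσ, h, Matrix.one_mulVec]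

end

section diag

variable {F : Type*} [Field F]

/-- the diagonal entries: a tuple of length 8 completed to product 1 -/
def ent (d : Fin 8 → Fˣ) : Fin 9 → Fˣ := Fin.cons (∏ i, d i)⁻¹ d

theorem ent_mul (d e : Fin 8 → Fˣ) : ent (d * e) = ent d * ent e := by
  unfold ent
  funext i
  refine Fin.cases ?_ (fun j => ?_) i
  · simp only [Fin.cons_zero, Pi.mul_apply, Finset.prod_mul_distrib, mul_inv]
  · simp only [Fin.cons_succ, Pi.mul_apply]

theorem ent_prod (d : Fin 8 → Fˣ) : ∏ i, ent d i = 1 := by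
  unfold ent
  rw [Fin.prod_univ_succ]
  simp

/-- diagonal matrices of determinant one -/
def dia : (Fin 8 → Fˣ) →* GL (Fin 9) F where
  toFun d := ⟨Matrix.diagonal (fun i => (ent d i : F)), Matrix.diagonal (fun i => ((ent d i)⁻¹ : Fˣ)), by
    rw [Matrix.diagonal_mul_diagonal, ← Matrix.diagonal_one]
    congr 1
    funext i
    rw [← Units.val_mul, mul_inv_cancel, Units.val_one], by
    rw [Matrix.diagonal_mul_diagonal, ← Matrix.diagonal_one]
    congr 1
    funext i
    rw [← Units.val_mul, inv_mul_cancel, Units.val_one]⟩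
  map_one' := by
    apply Units.ext
    change Matrix.diagonal _ = 1
    rw [← Matrix.diagonal_one]
    congr 1
    funext i
    refine Fin.cases ?_ (fun j => ?_) i
    · simp [ent]
    · simp [ent]
  map_mul' d e := by
    apply Units.ext
    change Matrix.diagonal _ = Matrix.diagonal _ * Matrix.diagonal _
    rw [Matrix.diagonal_mul_diagonal, ent_mul]
    rfl

theorem dia_coe (d : Fin 8 → Fˣ) : (dia d : Matrix (Fin 9) (Fin 9) F) =
    Matrix.diagonal (fun i => (ent d i : F)) := rfl

theorem dia_injective : Function.Injective (dia : (Fin 8 → Fˣ) →* GL (Fin 9) F) := by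
  intro d e h
  have h1 : (dia d : Matrix (Fin 9) (Fin 9) F) = dia e := by rw [h]
  rw [dia_coe, dia_coe] at h1
  have h2 := Matrix.diagonal_injective h1
  funext i
  have h3 := congrFun h2 i.succ
  apply Units.ext
  simpa [ent] using h3

theorem dia_det (d : Fin 8 → Fˣ) : Matrix.GeneralLinearGroup.det (dia d) = 1 := by
  apply Units.ext
  rw [Matrix.GeneralLinearGroup.val_det_apply, Units.val_one, dia_coe, Matrix.det_diagonal]
  rw [← Units.coe_prod, ent_prod, Units.val_one]

theorem pow_three [Fintype F] (hF : Fintype.card F = 4) {x : F} (hx : x ≠ 0) : x ^ 3 = 1 := by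
  have h3 : x ^ (Fintype.card F - 1) = 1 := FiniteField.pow_card_sub_one_eq_one _ hx
  rwa [hF] at h3

theorem dia_mem [Fintype F] (hF : Fintype.card F = 4) {σ : F ≃+* F} (hσ : ∀ x, σ x = x ^ 2)
    (d : Fin 8 → Fˣ) : dia d ∈ UU (Fin 9) σ := by
  rw [mem_UU, dia_coe, Matrix.diagonal_transpose, Matrix.diagonal_map (map_zero σ),
    Matrix.diagonal_mul_diagonal, ← Matrix.diagonal_one]
  congr 1
  funext i
  change (ent d i : F) * σ (ent d i : F) = 1
  rw [hσ, ← pow_succ', pow_three hF (ent d i).ne_zero]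

theorem card_dia [Fintype F] (hF : Fintype.card F = 4) :
    Nat.card (dia : (Fin 8 → Fˣ) →* GL (Fin 9) F).range = 6561 := by
  have h1 : Nat.card (dia : (Fin 8 → Fˣ) →* GL (Fin 9) F).range = Nat.card (Fin 8 → Fˣ) :=
    (Nat.card_congr (MonoidHom.ofInjective dia_injective).toEquiv).symm
  rw [h1, Nat.card_fun, Nat.card_units, Nat.card_eq_fintype_card, Nat.card_eq_fintype_card,
    Fintype.card_fin, hF]
  norm_num

end diag

end Cfsg.Agent.H571.JUnit
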