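import Cfsg.Agent.H464.Sl2Weil
import Cfsg.Agent.H464.RegularPart
import Cfsg.Agent.H906.Trace

/-!
# Nontrivial `9`-dimensional representations of `SL₂(19)` in characteristic 2 (helper571)

* `span_top` : they are absolutely irreducible;
* `om` : the trace `τ` of `u 1` satisfies `τ² + τ + 1 = 0`;
* `trace_eq` : two of them with the same `τ` have the same character.
-/

set_option autoImplicit false
set_option linter.unusedSectionVars false

namespace Cfsg.Agent.H571.JWeil

open Matrix Module Cfsg Cfsg.Geo Cfsg.Agent.H464.Sl2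

instance fact19 : Fact (Nat.Prime 19) := ⟨by norm_num⟩

/-- `SL₂(19)` -/
abbrev S19 := SpecialLinearGroup (Fin 2) (ZMod 19)

section Alg

variable {k : Type*} [Field k] [IsAlgClosed k] {V : Type*} [AddCommGroup V] [Module k V]
  [FiniteDimensional k V] (R : S19 →* Module.End k V) {ψ : AddChar (ZMod 19) k}
  (hψ : ψ.IsPrimitive) (hK : (Fintype.card (ZMod 19) : k) ≠ 0)

theorem card_sq : ∀ b : ZMod 19, b ≠ 0 →
    (Finset.univ.filter fun c : ZMod 19 => ∃ a : ZMod 19, a ≠ 0 ∧ a ^ 2 * b = c).card = 9 := by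
  decide +kernel

include hψ hK

theorem nine_le_sum (hR : R ≠ 1) :
    9 ≤ ∑ b ∈ Finset.univ.erase (0 : ZMod 19), finrank k (LinearMap.range (E R ψ b)) := by
  obtain ⟨b, hb, hne⟩ := exists_E_ne R hψ hK hR
  rw [← card_sq b hb, Finset.card_eq_sum_ones]
  have h1 : (Finset.univ.filter fun c : ZMod 19 => ∃ a : ZMod 19, a ≠ 0 ∧ a ^ 2 * b = c) ⊆
      Finset.univ.erase (0 : ZMod 19) := by
    intro c hc
    obtain ⟨-, a, ha, rfl⟩ := Finset.mem_filter.1 hc
    exact Finset.mem_erase.2 ⟨mul_ne_zero (pow_ne_zero 2 ha) hb, Finset.mem_univ _⟩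
  refine le_trans ?_ (Finset.sum_le_sum_of_subset h1)
  refine Finset.sum_le_sum fun c hc => ?_
  obtain ⟨-, a, ha, rfl⟩ := Finset.mem_filter.1 hc
  have h2 := finrank_E_mul_sq R (ψ := ψ) (Units.mk0 a ha) b
  rw [Units.val_mk0] at h2
  rw [h2]
  omega

theorem nine_le_finrank (hR : R ≠ 1) : 9 ≤ finrank k V := by
  have h1 := finrank_eq_sum R hψ hK
  have h2 := nine_le_sum R hψ hK hR
  rw [h1]
  exact h2.trans (Finset.sum_le_sum_of_subset (Finset.subset_univ _))

theorem E_zero (hR : R ≠ 1) (h9 : finrank k V = 9) : E R ψ 0 = 0 := by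
  have h1 := finrank_eq_sum R hψ hK
  have h2 := nine_le_sum R hψ hK hR
  rw [h9, ← Finset.add_sum_erase _ _ (Finset.mem_univ (0 : ZMod 19))] at h1
  have h3 : finrank k (LinearMap.range (E R ψ 0)) = 0 := by omega
  rw [Submodule.finrank_eq_zero] at h3
  exact LinearMap.range_eq_bot.1 h3

/-- restriction to an invariant subspace -/
noncomputable def res (W : Submodule k V) (hW : ∀ g, ∀ w ∈ W, R g w ∈ W) : S19 →* Module.End k W where
  toFun g := (R g).restrict (hW g)
  map_one' := by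
    ext w
    simp
  map_mul' g h := by
    ext w
    simp

theorem irred (hR : R ≠ 1) (h9 : finrank k V = 9) (W : Submodule k V)
    (hW : ∀ g, ∀ w ∈ W, R g w ∈ W) : W = ⊥ ∨ W = ⊤ := by
  by_cases h : res R W hW = 1
  · left
    rw [eq_bot_iff]
    intro w hw
    have h1 : ∀ x, R (u x) w = w := by
      intro x
      have h2 := congrArg (fun f => ((f ⟨w, hw⟩ : W) : V)) (DFunLike.congr_fun h (u x))
      exact h2
    have h2 : E R ψ 0 w = w := by
      unfold E
      rw [LinearMap.smul_apply, LinearMap.sum_apply]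
      have h3 : ∀ x ∈ (Finset.univ : Finset (ZMod 19)), (ψ (-(0 * x)) • R (u x)) w = w := by
        intro x _
        rw [LinearMap.smul_apply, zero_mul, neg_zero, AddChar.map_zero_eq_one, one_smul, h1]
      rw [Finset.sum_congr rfl h3, Finset.sum_const, Finset.card_univ, ← Nat.cast_smul_eq_nsmul k,
        smul_smul, inv_mul_cancel₀ hK, one_smul]
    rw [E_zero R hψ hK hR h9, LinearMap.zero_apply] at h2
    exact h2.symm
  · right
    have h1 := nine_le_finrank (res R W hW) hψ hK h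
    apply Submodule.eq_top_of_finrank_eq
    have h2 := Submodule.finrank_le W
    omega

theorem scalar_of_commute (hR : R ≠ 1) (h9 : finrank k V = 9) (M : Module.End k V)
    (hM : ∀ g, M * R g = R g * M) : ∃ c : k, M = c • 1 := by
  have hnt : Nontrivial V := by
    apply Module.nontrivial_of_finrank_pos (R := k)
    omega
  obtain ⟨c, hc⟩ := Module.End.exists_eigenvalue M
  refine ⟨c, ?_⟩
  have h1 := irred R hψ hK hR h9 (Module.End.eigenspace M c) (by
    intro g w hw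
    rw [Module.End.mem_eigenspace_iff] at hw ⊢
    rw [← Module.End.mul_apply, hM, Module.End.mul_apply, hw, map_smul])
  rcases h1 with h1 | h1
  · exact absurd h1 hc
  · ext v
    have h2 : v ∈ Module.End.eigenspace M c := by rw [h1]; trivial
    rw [Module.End.mem_eigenspace_iff] at h2
    rw [h2]
    simp

end Alg

section Fld

variable {F : Type*} [Field F] [CharP F 2] (ρ : S19 →* GL (Fin 9) F)

theorem card_ne (k : Type*) [Field k] [CharP k 2] : (Fintype.card (ZMod 19) : k) ≠ 0 := by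
  rw [ZMod.card]
  intro h
  have h1 := (CharP.cast_eq_zero_iff k 2 19).1 h
  omega

/-- the extension to `k` as a matrix representation -/
noncomputable def extG (k : Type*) [Field k] [Algebra F k] : S19 →* GL (Fin 9) k :=
  (GeneralLinearGroup.map (algebraMap F k)).comp ρ

theorem extG_coe (k : Type*) [Field k] [Algebra F k] (g : S19) :
    (extG ρ k g : Matrix (Fin 9) (Fin 9) k) = (ρ g : Matrix (Fin 9) (Fin 9) F).map (algebraMap F k) := rfl

theorem absIrr_ext (k : Type*) [Field k] [IsAlgClosed k] [Algebra F k] [CharP k 2] (hρ : ρ ≠ 1) :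
    ActsAbsolutelyIrreducibly (matrixSet (extG ρ k).range) := by
  have hKk := card_ne k
  obtain ⟨ψ, hψ⟩ := exists_prim (K := ZMod 19) hKk
  have hne := ext_ne_one ρ k hρ
  have h9 : finrank k (Fin 9 → k) = 9 := Module.finrank_fin_fun k
  constructor
  · intro W hW
    apply irred (ext ρ k) hψ hKk hne h9 W
    intro g w hw
    have h1 := hW (extG ρ k g : Matrix (Fin 9) (Fin 9) k) ⟨_, ⟨g, rfl⟩, rfl⟩
    exact h1 (Submodule.mem_map_of_mem hw)
  · intro M hM
    obtain ⟨c, hc⟩ := scalar_of_commute (ext ρ k) hψ hKk hne h9 (Matrix.toLin' M) (by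
      intro g
      have h1 := hM (extG ρ k g : Matrix (Fin 9) (Fin 9) k) ⟨_, ⟨g, rfl⟩, rfl⟩
      rw [extG_coe] at h1
      rw [ext_apply]
      change Matrix.toLin' M ∘ₗ Matrix.toLin' _ = Matrix.toLin' _ ∘ₗ Matrix.toLin' M
      rw [← Matrix.toLin'_mul, ← Matrix.toLin'_mul, h1])
    refine ⟨c, ?_⟩
    apply Matrix.toLin'.injective
    rw [hc, map_smul, Matrix.toLin'_one]
    rfl

/-- **Absolute irreducibility.** -/
theorem span_top (hρ : ρ ≠ 1) :
    Submodule.span F (Set.range fun g : S19 => (ρ g : Matrix (Fin 9) (Fin 9) F)) = ⊤ := by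
  classical
  set k := AlgebraicClosure F
  have hc : CharP k 2 := charP_of_injective_algebraMap (algebraMap F k).injective 2
  have h1 := span_eq_top (extG ρ k) (absIrr_ext ρ k hρ)
  by_contra hne
  have h2 : ∃ f : Module.Dual F (Matrix (Fin 9) (Fin 9) F), f ≠ 0 ∧
      ∀ g : S19, f (ρ g : Matrix (Fin 9) (Fin 9) F) = 0 := by
    obtain ⟨f, hf, hf2⟩ := Submodule.exists_le_ker_of_lt_top _ (lt_top_iff_ne_top.2 hne)
    exact ⟨f, hf, fun g => hf2 (Submodule.subset_span ⟨g, rfl⟩)⟩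
  obtain ⟨f, hf, hfg⟩ := h2
  -- the functional over `k`
  let f' : Matrix (Fin 9) (Fin 9) k →ₗ[k] k :=
    { toFun := fun X => ∑ i, ∑ j, algebraMap F k (f (Matrix.single i j 1)) * X i j
      map_add' := by
        intro X Y
        simp only [Matrix.add_apply, mul_add, Finset.sum_add_distrib]
      map_smul' := by
        intro c X
        change (∑ i, ∑ j, algebraMap F k (f (Matrix.single i j 1)) * (c * X i j)) =
          c * ∑ i, ∑ j, algebraMap F k (f (Matrix.single i j 1)) * X i j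
        rw [Finset.mul_sum]
        refine Finset.sum_congr rfl fun i _ => ?_
        rw [Finset.mul_sum]
        refine Finset.sum_congr rfl fun j _ => ?_
        ring }
  have hf' : ∀ X : Matrix (Fin 9) (Fin 9) F, f' (X.map (algebraMap F k)) = algebraMap F k (f X) := by
    intro X
    change (∑ i, ∑ j, algebraMap F k (f (Matrix.single i j 1)) * (algebraMap F k (X i j))) = _
    conv_rhs => rw [Matrix.matrix_eq_sum_single X]
    rw [map_sum, map_sum]
    refine Finset.sum_congr rfl fun i _ => ?_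
    rw [map_sum, map_sum]
    refine Finset.sum_congr rfl fun j _ => ?_
    have h3 : Matrix.single i j (X i j) = X i j • (Matrix.single i j 1 : Matrix (Fin 9) (Fin 9) F) := by
      rw [Matrix.smul_single, smul_eq_mul, mul_one]
    rw [h3, map_smul, smul_eq_mul, map_mul, mul_comm]
  have hz : f' = 0 := by
    have h4 : ⊤ ≤ LinearMap.ker f' := by
      rw [← h1, Submodule.span_le]
      rintro _ ⟨g, rfl⟩
      change f' (extG ρ k g : Matrix (Fin 9) (Fin 9) k) = 0
      rw [extG_coe, hf', hfg, map_zero]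
    exact LinearMap.ker_eq_top.1 (top_le_iff.1 h4)
  apply hf
  apply LinearMap.ext
  intro X
  have h5 := hf' X
  rw [hz, LinearMap.zero_apply] at h5
  exact (algebraMap F k).injective (by rw [← h5, LinearMap.zero_apply, map_zero])

theorem absIrr (hρ : ρ ≠ 1) : ActsAbsolutelyIrreducibly (matrixSet ρ.range) := by
  apply Cfsg.Agent.H919.absIrr_of_adjoin_eq_top
  rw [eq_top_iff]
  intro X _
  have hX : X ∈ Submodule.span F (Set.range fun g : S19 => (ρ g : Matrix (Fin 9) (Fin 9) F)) := by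
    rw [span_top ρ hρ]; trivial
  refine Submodule.span_induction ?_ ?_ ?_ ?_ hX
  · rintro _ ⟨g, rfl⟩
    exact Algebra.subset_adjoin ⟨_, ⟨g, rfl⟩, rfl⟩
  · exact Subalgebra.zero_mem _
  · intro x y _ _ hx hy
    exact Subalgebra.add_mem _ hx hy
  · intro c x _ hx
    exact Subalgebra.smul_mem _ hx c

/-! ### traces -/

theorem conj_t (a : (ZMod 19)ˣ) (x : ZMod 19) : t a * u x * (t a)⁻¹ = u ((a : ZMod 19) ^ 2 * x) := by
  rw [t_mul_u, mul_inv_cancel_right]

theorem trace_conj (g h : S19) : (ρ (g * h * g⁻¹) : Matrix (Fin 9) (Fin 9) F).trace =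
    (ρ h : Matrix (Fin 9) (Fin 9) F).trace := by
  rw [map_mul, map_mul, Units.val_mul, Units.val_mul, Matrix.trace_mul_comm, ← mul_assoc,
    ← Units.val_mul, ← map_mul, inv_mul_cancel, map_one, Units.val_one, one_mul]

theorem trace_sq_mul {a : ZMod 19} (ha : a ≠ 0) (x : ZMod 19) :
    (ρ (u (a ^ 2 * x)) : Matrix (Fin 9) (Fin 9) F).trace = (ρ (u x) : Matrix (Fin 9) (Fin 9) F).trace := by
  have h := conj_t (Units.mk0 a ha) x
  rw [Units.val_mk0] at h
  rw [← h, trace_conj]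

theorem trace_two_mul (x : ZMod 19) : (ρ (u (2 * x)) : Matrix (Fin 9) (Fin 9) F).trace =
    (ρ (u x) : Matrix (Fin 9) (Fin 9) F).trace ^ 2 := by
  have h2 : Fact (Nat.Prime 2) := ⟨Nat.prime_two⟩
  rw [two_mul, u_add, map_mul, Units.val_mul, ← sq]
  exact Cfsg.Agent.H464.Reg.trace_pow 2 _

theorem cases : ∀ x : ZMod 19, x = 0 ∨ (∃ a : ZMod 19, a ≠ 0 ∧ a ^ 2 * 1 = x) ∨
    (∃ a : ZMod 19, a ≠ 0 ∧ a ^ 2 * (2 * 1) = x) := by
  decide +kernel

/-- The trace at `u x` is a function of the trace at `u 1`. -/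
theorem trace_u_eq (x : ZMod 19) : (ρ (u x) : Matrix (Fin 9) (Fin 9) F).trace =
    if x = 0 then 1 else if (∃ a : ZMod 19, a ≠ 0 ∧ a ^ 2 * 1 = x) then
      (ρ (u 1) : Matrix (Fin 9) (Fin 9) F).trace else (ρ (u 1) : Matrix (Fin 9) (Fin 9) F).trace ^ 2 := by
  by_cases h0 : x = 0
  · rw [if_pos h0, h0, u_zero, map_one, Units.val_one, Matrix.trace_one, Fintype.card_fin]
    have h2 : (2 : F) = 0 := by
      have := CharP.cast_eq_zero F 2
      exact_mod_cast this
    have : ((9 : ℕ) : F) = 4 * 2 + 1 := by norm_num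
    rw [this, h2, mul_zero, zero_add]
  · rw [if_neg h0]
    by_cases h1 : ∃ a : ZMod 19, a ≠ 0 ∧ a ^ 2 * 1 = x
    · rw [if_pos h1]
      obtain ⟨a, ha, rfl⟩ := h1
      rw [trace_sq_mul ρ ha]
    · rw [if_neg h1]
      rcases cases x with h | h | ⟨a, ha, rfl⟩
      · exact absurd h h0
      · exact absurd h h1
      · rw [trace_sq_mul ρ ha, trace_two_mul]

theorem sum_trace (hρ : ρ ≠ 1) : ∑ x : ZMod 19, (ρ (u x) : Matrix (Fin 9) (Fin 9) F).trace = 0 := by
  set k := AlgebraicClosure F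
  have hc : CharP k 2 := charP_of_injective_algebraMap (algebraMap F k).injective 2
  have hKk := card_ne k
  obtain ⟨ψ, hψ⟩ := exists_prim (K := ZMod 19) hKk
  have h1 := E_zero (ext ρ k) hψ hKk (ext_ne_one ρ k hρ) (Module.finrank_fin_fun k)
  have h2 := trace_E_eq (ext ρ k) ψ 0
  rw [h1, map_zero] at h2
  have h3 : ∀ x : ZMod 19, ψ (-(0 * x)) * LinearMap.trace k _ (ext ρ k (u x)) =
      algebraMap F k ((ρ (u x) : Matrix (Fin 9) (Fin 9) F).trace) := by
    intro x
    rw [zero_mul, neg_zero, AddChar.map_zero_eq_one, one_mul, trace_ext]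
  rw [Finset.sum_congr rfl fun x _ => h3 x, ← map_sum] at h2
  have h4 := (mul_eq_zero.1 h2.symm).resolve_left (inv_ne_zero hKk)
  exact (algebraMap F k).injective (by rw [h4, map_zero])

theorem card_a : (Finset.univ.filter fun x : ZMod 19 => x = 0).card = 1 ∧
    ((Finset.univ.filter fun x : ZMod 19 => ¬ x = 0).filter
      fun x => ∃ a : ZMod 19, a ≠ 0 ∧ a ^ 2 * 1 = x).card = 9 ∧
    ((Finset.univ.filter fun x : ZMod 19 => ¬ x = 0).filter
      fun x => ¬ ∃ a : ZMod 19, a ≠ 0 ∧ a ^ 2 * 1 = x).card = 9 := by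
  decide +kernel

/-- The trace `τ` of `u 1` is a primitive cube root of unity. -/
theorem om (hρ : ρ ≠ 1) : (ρ (u 1) : Matrix (Fin 9) (Fin 9) F).trace ^ 2 +
    (ρ (u 1) : Matrix (Fin 9) (Fin 9) F).trace + 1 = 0 := by
  have h := sum_trace ρ hρ
  rw [Finset.sum_congr rfl fun x _ => trace_u_eq ρ x, Finset.sum_ite, Finset.sum_ite,
    Finset.sum_const, Finset.sum_const, Finset.sum_const, card_a.1, card_a.2.1, card_a.2.2] at h
  have h2 : (2 : F) = 0 := by
    have := CharP.cast_eq_zero F 2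
    exact_mod_cast this
  simp only [nsmul_eq_mul] at h
  push_cast at h
  linear_combination h - (4 * (ρ (u 1) : Matrix (Fin 9) (Fin 9) F).trace +
    4 * (ρ (u 1) : Matrix (Fin 9) (Fin 9) F).trace ^ 2) * h2

/-- The central involution acts trivially. -/
theorem central (hρ : ρ ≠ 1) : (ρ (t (-1)) : Matrix (Fin 9) (Fin 9) F) = (1 : F) • 1 := by
  obtain ⟨c, hc2, hc⟩ := exists_central ρ (absIrr ρ hρ) (by norm_num)
  have h2 : (2 : F) = 0 := by
    have := CharP.cast_eq_zero F 2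
    exact_mod_cast this
  have h3 : (c - 1) * (c - 1) = 0 := by linear_combination hc2 + (1 - c) * h2
  have h4 : c = 1 := sub_eq_zero.1 (mul_self_eq_zero.1 h3)
  rw [hc, h4]

/-- **Uniqueness of the character.** -/
theorem trace_eq (ρ₁ ρ₂ : S19 →* GL (Fin 9) F) (h₁ : ρ₁ ≠ 1) (h₂ : ρ₂ ≠ 1)
    (h : (ρ₁ (u 1) : Matrix (Fin 9) (Fin 9) F).trace = (ρ₂ (u 1) : Matrix (Fin 9) (Fin 9) F).trace)
    (g : S19) : (ρ₁ g : Matrix (Fin 9) (Fin 9) F).trace = (ρ₂ g : Matrix (Fin 9) (Fin 9) F).trace := by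
  refine weil_trace_eq ρ₁ ρ₂ (card_ne F) h₁ h₂ (span_top ρ₁ h₁) (span_top ρ₂ h₂) ?_ ?_ ?_ ?_ ?_ g
  · rw [ZMod.card]; norm_num
  · rw [ZMod.ringChar_zmod_n]; norm_num
  · rw [ZMod.card]; norm_num
  · intro x
    rw [trace_u_eq ρ₁ x, trace_u_eq ρ₂ x, h]
  · exact ⟨1, central ρ₁ h₁, central ρ₂ h₂⟩

/-- **Uniqueness of the representation.** -/
theorem exists_conj (ρ₁ ρ₂ : S19 →* GL (Fin 9) F) (h₁ : ρ₁ ≠ 1) (h₂ : ρ₂ ≠ 1)
    (h : (ρ₁ (u 1) : Matrix (Fin 9) (Fin 9) F).trace = (ρ₂ (u 1) : Matrix (Fin 9) (Fin 9) F).trace) :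
    ∃ B : GL (Fin 9) F, ∀ g, ρ₂ g = B * ρ₁ g * B⁻¹ := by
  obtain ⟨B, hB⟩ := Cfsg.Agent.H906.exists_conj_of_trace
    ((Units.coeHom (Matrix (Fin 9) (Fin 9) F)).comp ρ₁) ((Units.coeHom (Matrix (Fin 9) (Fin 9) F)).comp ρ₂)
    (span_top ρ₁ h₁) (span_top ρ₂ h₂) (trace_eq ρ₁ ρ₂ h₁ h₂ h)
  exact ⟨B, fun g => Units.ext (hB g)⟩

end Fld

end Cfsg.Agent.H571.JWeil
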