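import Cfsg.Agent.ClassicalGeometry.AutPSL.Main
import Cfsg.Agent.H571.JWeil

/-!
# The normaliser of `PSL₂(19)` in `GL₉(F)`, characteristic 2 (helper571)
-/

set_option autoImplicit false
set_option linter.unusedSectionVars false

namespace Cfsg.Agent.H571.JNorm

open Matrix Cfsg Cfsg.Geo Cfsg.Agent.H464.Sl2 Cfsg.Agent.H571.JWeil
open Cfsg.Agent.ClassicalGeometry.AutPSL.Root (pr pr_surjective)
open Cfsg.Agent.ClassicalGeometry.AutPSL.Auto (cj fld lift lift_pr coe_cj)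

/-- `PSL₂(19)` -/
abbrev L19 := ProjectiveSpecialLinearGroup (Fin 2) (ZMod 19)

theorem ringEquiv_eq (σ : ZMod 19 ≃+* ZMod 19) : σ = 1 := by
  ext x
  have h : (σ : ZMod 19 →+* ZMod 19) = RingHom.id _ := Subsingleton.elim _ _
  exact congrArg (fun f => f x) h

theorem cj_eq {A : GL (Fin 2) (ZMod 19)} {S : S19} {x y : S19}
    (D : Matrix (Fin 2) (Fin 2) (ZMod 19)) (hS : (S : Matrix (Fin 2) (Fin 2) (ZMod 19)) = A * D)
    (hD : (x : Matrix (Fin 2) (Fin 2) (ZMod 19)) * D = D * y) : cj A x = S * y * S⁻¹ := by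
  rw [eq_mul_inv_iff_mul_eq]
  apply Subtype.ext
  change (cj A x : Matrix (Fin 2) (Fin 2) (ZMod 19)) * (S : Matrix (Fin 2) (Fin 2) (ZMod 19)) =
    (S : Matrix (Fin 2) (Fin 2) (ZMod 19)) * (y : Matrix (Fin 2) (Fin 2) (ZMod 19))
  have h1 : ((A⁻¹ : GL (Fin 2) (ZMod 19)) : Matrix (Fin 2) (Fin 2) (ZMod 19)) *
      (A : Matrix (Fin 2) (Fin 2) (ZMod 19)) = 1 := by
    rw [← Units.val_mul, inv_mul_cancel, Units.val_one]
  have h2 : (cj A x : Matrix (Fin 2) (Fin 2) (ZMod 19)) = (A : Matrix (Fin 2) (Fin 2) (ZMod 19)) *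
      (x : Matrix (Fin 2) (Fin 2) (ZMod 19)) * ((A⁻¹ : GL (Fin 2) (ZMod 19)) : Matrix _ _ _) := coe_cj A x
  rw [h2, hS, Matrix.mul_assoc, ← Matrix.mul_assoc _ (A : Matrix (Fin 2) (Fin 2) (ZMod 19)) D, h1,
    Matrix.one_mul, Matrix.mul_assoc, hD, Matrix.mul_assoc]

/-- Every automorphism of `PSL₂(19)` is inner or moves the class of `u 1` to the class of `u 2`. -/
theorem inner_or (α : MulAut L19) : (∃ S : S19, ∀ x : S19, α (pr x) = pr (S * x * S⁻¹)) ∨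
    (∃ S : S19, α (pr (u 1)) = pr (S * u 2 * S⁻¹)) := by
  obtain ⟨A, σ, rfl⟩ := Cfsg.Agent.ClassicalGeometry.AutPSL.Main.surj_two 19 α
  rw [ringEquiv_eq σ, map_one, mul_one]
  have hdet : (A : Matrix (Fin 2) (Fin 2) (ZMod 19)).det ≠ 0 := by
    intro h
    have := A.isUnit
    rw [Matrix.isUnit_iff_isUnit_det, h] at this
    exact not_isUnit_zero this
  rcases cases (A : Matrix (Fin 2) (Fin 2) (ZMod 19)).det with h | ⟨a, ha, h⟩ | ⟨a, ha, h⟩
  · exact absurd h hdet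
  · left
    have h1 : ((A : Matrix (Fin 2) (Fin 2) (ZMod 19)) * (a⁻¹ • 1)).det = 1 := by
      rw [Matrix.det_mul, ← h, Matrix.det_smul, Matrix.det_one, Fintype.card_fin]
      field_simp
    refine ⟨⟨_, h1⟩, fun x => ?_⟩
    rw [lift_pr]
    congr 1
    refine cj_eq (a⁻¹ • 1) rfl ?_
    rw [Matrix.mul_smul, Matrix.smul_mul, Matrix.mul_one, Matrix.one_mul]
  · right
    have h2 : (2 : ZMod 19) ≠ 0 := by decide
    have h1 : ((A : Matrix (Fin 2) (Fin 2) (ZMod 19)) * !![(2 * a)⁻¹, 0; 0, a⁻¹]).det = 1 := by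
      rw [Matrix.det_mul, ← h, Matrix.det_fin_two_of]
      field_simp
      ring
    refine ⟨⟨_, h1⟩, ?_⟩
    rw [lift_pr]
    congr 1
    refine cj_eq !![(2 * a)⁻¹, 0; 0, a⁻¹] rfl ?_
    rw [u_coe, u_coe]
    ext i j
    fin_cases i <;> fin_cases j <;> simp [Matrix.mul_apply, Fin.sum_univ_two]
    field_simp

section
variable {F : Type*} [Field F] [CharP F 2] (ρ : S19 →* GL (Fin 9) F)

theorem center_ker (hρ : ρ ≠ 1) : ∀ g ∈ Subgroup.center S19, ρ g = 1 := by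
  intro g hg
  obtain ⟨r, hr, hg⟩ := Matrix.SpecialLinearGroup.mem_center_iff.1 hg
  rw [Fintype.card_fin] at hr
  rw [sq] at hr
  rcases mul_self_eq_one_iff.1 hr with rfl | rfl
  · have h1 : g = 1 := by
      apply Subtype.ext
      rw [← hg, map_one]
      rfl
    rw [h1, map_one]
  · have h1 : g = t (-1) := by
      apply Subtype.ext
      rw [← hg]
      change _ = !![((-1 : (ZMod 19)ˣ) : ZMod 19), 0; 0, (((-1 : (ZMod 19)ˣ)⁻¹ : (ZMod 19)ˣ) : ZMod 19)]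
      ext i j
      fin_cases i <;> fin_cases j <;> simp
    rw [h1]
    apply Units.ext
    rw [central ρ hρ, one_smul, Units.val_one]

/-- the map on `PSL₂(19)` -/
noncomputable def bar (hρ : ρ ≠ 1) : L19 →* GL (Fin 9) F :=
  QuotientGroup.lift (Subgroup.center S19) ρ (center_ker ρ hρ)

theorem bar_pr (hρ : ρ ≠ 1) (g : S19) : bar ρ hρ (pr g) = ρ g := rfl

theorem bar_injective (hρ : ρ ≠ 1) (hker : ∀ g, ρ g = 1 → pr g = 1) :
    Function.Injective (bar ρ hρ) := by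
  rw [injective_iff_map_eq_one]
  intro x hx
  obtain ⟨g, rfl⟩ := pr_surjective x
  exact hker g hx

theorem bar_range (hρ : ρ ≠ 1) : (bar ρ hρ).range = ρ.range := by
  ext x
  constructor
  · rintro ⟨y, rfl⟩
    obtain ⟨g, rfl⟩ := pr_surjective y
    exact ⟨g, rfl⟩
  · rintro ⟨g, rfl⟩
    exact ⟨pr g, rfl⟩

/-- The automorphism of `PSL₂(19)` given by an element normalising the image. -/
theorem exists_aut (hρ : ρ ≠ 1) (hker : ∀ g, ρ g = 1 → pr g = 1) (h : GL (Fin 9) F)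
    (hn : ∀ x ∈ ρ.range, h * x * h⁻¹ ∈ ρ.range) (hn' : ∀ x ∈ ρ.range, h⁻¹ * x * h ∈ ρ.range) :
    ∃ α : MulAut L19, ∀ x, bar ρ hρ (α x) = h * bar ρ hρ x * h⁻¹ := by
  have hmap : (bar ρ hρ).range.map (MulAut.conj h).toMonoidHom = (bar ρ hρ).range := by
    rw [bar_range]
    apply le_antisymm
    · rintro _ ⟨x, hx, rfl⟩
      exact hn x hx
    · intro x hx
      refine ⟨h⁻¹ * x * h, hn' x hx, ?_⟩
      change h * (h⁻¹ * x * h) * h⁻¹ = x
      group
  let e : L19 ≃* (bar ρ hρ).range := MonoidHom.ofInjective (bar_injective ρ hρ hker)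
  let f : (bar ρ hρ).range ≃* (bar ρ hρ).range :=
    ((MulAut.conj h).subgroupMap (bar ρ hρ).range).trans (MulEquiv.subgroupCongr hmap)
  refine ⟨(e.trans f).trans e.symm, fun x => ?_⟩
  have h1 : e (((e.trans f).trans e.symm) x) = f (e x) := by
    rw [MulEquiv.trans_apply, MulEquiv.apply_symm_apply, MulEquiv.trans_apply]
  exact congrArg Subtype.val h1

/-- **The normaliser.** -/
theorem eq_smul_of_normalizes (hρ : ρ ≠ 1) (hker : ∀ g, ρ g = 1 → pr g = 1) (h : GL (Fin 9) F)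
    (hn : ∀ x ∈ ρ.range, h * x * h⁻¹ ∈ ρ.range) (hn' : ∀ x ∈ ρ.range, h⁻¹ * x * h ∈ ρ.range) :
    ∃ (g : S19) (c : F), (h : Matrix (Fin 9) (Fin 9) F) = c • (ρ g : Matrix (Fin 9) (Fin 9) F) := by
  obtain ⟨α, hα⟩ := exists_aut ρ hρ hker h hn hn'
  rcases inner_or α with ⟨S, hS⟩ | ⟨S, hS⟩
  · have h1 : ∀ x : S19, ρ S * ρ x * (ρ S)⁻¹ = h * ρ x * h⁻¹ := by
      intro x
      have h2 := hα (pr x)
      rw [hS, bar_pr, bar_pr, map_mul, map_mul, map_inv] at h2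
      exact h2
    obtain ⟨c, hc⟩ := (absIrr ρ hρ).2 (((ρ S)⁻¹ * h : GL (Fin 9) F) : Matrix (Fin 9) (Fin 9) F) (by
      rintro _ ⟨_, ⟨x, rfl⟩, rfl⟩
      change (((ρ S)⁻¹ * h : GL (Fin 9) F) : Matrix (Fin 9) (Fin 9) F) * (ρ x : Matrix (Fin 9) (Fin 9) F) =
        (ρ x : Matrix (Fin 9) (Fin 9) F) * (((ρ S)⁻¹ * h : GL (Fin 9) F) : Matrix (Fin 9) (Fin 9) F)
      rw [← Units.val_mul, ← Units.val_mul]
      congr 1
      have h2 := h1 x
      rw [eq_mul_inv_iff_mul_eq] at h2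
      rw [mul_assoc, inv_mul_eq_iff_eq_mul, ← h2]
      simp only [mul_assoc])
    refine ⟨S, c, ?_⟩
    have h3 : h = ρ S * ((ρ S)⁻¹ * h) := by group
    rw [h3, Units.val_mul, hc, Matrix.mul_smul, Matrix.mul_one]
  · exfalso
    have h1 := hα (pr (u 1))
    rw [hS, bar_pr, bar_pr, map_mul, map_mul, map_inv] at h1
    have h2 : (ρ (u 2) : Matrix (Fin 9) (Fin 9) F).trace = (ρ (u 1) : Matrix (Fin 9) (Fin 9) F).trace := by
      have h3 : ∀ A B : GL (Fin 9) F, ((A * B * A⁻¹ : GL (Fin 9) F) : Matrix (Fin 9) (Fin 9) F).trace =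
          (B : Matrix (Fin 9) (Fin 9) F).trace := by
        intro A B
        rw [Units.val_mul, Units.val_mul, Matrix.trace_mul_comm, ← Matrix.mul_assoc, ← Units.val_mul,
          inv_mul_cancel, Units.val_one, Matrix.one_mul]
      rw [← h3 (ρ S) (ρ (u 2)), h1, h3]
    have h3 := trace_two_mul ρ 1
    rw [mul_one, h2] at h3
    have h4 := om ρ hρ
    rw [← h3] at h4
    have h5 : (2 : F) = 0 := by
      have := CharP.cast_eq_zero F 2
      exact_mod_cast this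
    have h6 : (1 : F) = 0 := by
      linear_combination h4 - (ρ (u 1) : Matrix (Fin 9) (Fin 9) F).trace * h5
    exact one_ne_zero h6

end

end Cfsg.Agent.H571.JNorm
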