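import Cfsg.Agent.H464.L2StageOne
import Cfsg.Agent.H571.JNorm
import Cfsg.Agent.H571.JGU

/-!
# `L₂(19)` in `SU₉(2)` is contained in `3·J₃` (helper571)

`not_core` : a maximal subgroup of `SU₉(2)` has no residual core with socle `PSL₂(19)`.
-/

set_option autoImplicit false

namespace Cfsg.Agent.H571.JMain

open Matrix Cfsg Cfsg.Geo Cfsg.Spor Cfsg.Agent.H464.Sl2 Cfsg.Agent.H915.LD
open Cfsg.Agent.J3.Core Cfsg.Agent.J3.Elts
open Cfsg.Agent.H571.JWeil Cfsg.Agent.H571.JNorm Cfsg.Agent.H571.JUnit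
open Cfsg.Agent.ClassicalGeometry.AutPSL.Root (pr)

universe u

variable {F : Type u} [Field F]

/-- a bijection `F9 ≃ Fin 9` -/
noncomputable def e9 : F9 ≃ Fin 9 := Fintype.equivFinOfCardEq (by decide)

theorem trace_reindex (e : F9 ≃ Fin 9) (g : GL F9 F) :
    (glReindex e g : Matrix (Fin 9) (Fin 9) F).trace = (g : Matrix F9 F9 F).trace := by
  change (Matrix.reindex e e (g : Matrix F9 F9 F)).trace = _
  rw [Matrix.trace, Matrix.trace]
  exact Fintype.sum_equiv e.symm _ _ fun i => rfl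

theorem det_reindex (e : F9 ≃ Fin 9) (g : GL F9 F) :
    Matrix.GeneralLinearGroup.det (glReindex e g) = Matrix.GeneralLinearGroup.det g := by
  apply Units.ext
  rw [Matrix.GeneralLinearGroup.val_det_apply, Matrix.GeneralLinearGroup.val_det_apply]
  exact Matrix.det_reindex_self e (g : Matrix F9 F9 F)

theorem up_eq : Cfsg.Agent.H731.up (ZMod 19) 1 = u (1 : ZMod 19) := Subtype.ext rfl

/-- The embedding of `SL₂(19)/⟨-1⟩` in the reindexed `3·J₃`. -/
theorem exists_rho [Fintype F] (hF : Fintype.card F = 4) {ω : F} (H : Good ω) :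
    ∃ ρ : S19 →* GL (Fin 9) F, (∀ g, ρ g ∈ (threeJ3 F ω).map (glReindex e9).toMonoidHom) ∧
      (ρ (u 1) : Matrix (Fin 9) (Fin 9) F).trace = ω ∧ ρ ≠ 1 := by
  obtain ⟨φ, hφ⟩ := Cfsg.Agent.H571.JSub.exists_hom_J3 hF H
  have htr : ((glReindex e9).toMonoidHom.comp ((threeJ3 F ω).subtype.comp φ) (u 1) :
      Matrix (Fin 9) (Fin 9) F).trace = ω := by
    rw [← up_eq]
    exact (trace_reindex e9 _).trans hφ
  refine ⟨(glReindex e9).toMonoidHom.comp ((threeJ3 F ω).subtype.comp φ), fun g => ?_, htr, ?_⟩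
  · exact ⟨((φ g : threeJ3 F ω) : GL F9 F), (φ g).2, rfl⟩
  · intro h
    rw [h, MonoidHom.one_apply, Units.val_one, Matrix.trace_one, Fintype.card_fin] at htr
    apply H.ne_one
    rw [← htr]
    have h2 := H.two
    push_cast
    linear_combination 4 * h2

/-- A conjugating element between two unitary representations is unitary. -/
theorem conj_unitary [Finite F] {ρ₁ ρ₂ : S19 →* GL (Fin 9) F} [CharP F 2] (h₁ : ρ₁ ≠ 1)
    {σ : F ≃+* F} (hσ : ∀ x, σ x = x ^ 2) (hσσ : ∀ x, σ (σ x) = x)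
    (hu₁ : ∀ g, ρ₁ g ∈ UU (Fin 9) σ) (hu₂ : ∀ g, ρ₂ g ∈ UU (Fin 9) σ) {B : GL (Fin 9) F}
    (hB : ∀ g, ρ₂ g = B * ρ₁ g * B⁻¹) : B ∈ UU (Fin 9) σ := by
  have hBB : (B : Matrix (Fin 9) (Fin 9) F) * ((B⁻¹ : GL (Fin 9) F) : Matrix (Fin 9) (Fin 9) F) = 1 := by
    rw [← Units.val_mul, mul_inv_cancel, Units.val_one]
  have hinv : ∀ g : S19, (ρ₁ g : Matrix (Fin 9) (Fin 9) F)ᵀ *
      ((B : Matrix (Fin 9) (Fin 9) F)ᵀ * (B : Matrix (Fin 9) (Fin 9) F).map σ) *
      (ρ₁ g : Matrix (Fin 9) (Fin 9) F).map σ =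
      (B : Matrix (Fin 9) (Fin 9) F)ᵀ * (B : Matrix (Fin 9) (Fin 9) F).map σ := by
    intro g
    have h1 := mem_UU.1 (hu₂ g)
    have h2 : (B : Matrix (Fin 9) (Fin 9) F) * (ρ₁ g : Matrix (Fin 9) (Fin 9) F) =
        (ρ₂ g : Matrix (Fin 9) (Fin 9) F) * (B : Matrix (Fin 9) (Fin 9) F) := by
      rw [← Units.val_mul, ← Units.val_mul, hB g, inv_mul_cancel_right]
    calc (ρ₁ g : Matrix (Fin 9) (Fin 9) F)ᵀ *
        ((B : Matrix (Fin 9) (Fin 9) F)ᵀ * (B : Matrix (Fin 9) (Fin 9) F).map σ) *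
        (ρ₁ g : Matrix (Fin 9) (Fin 9) F).map σ
        = ((B : Matrix (Fin 9) (Fin 9) F) * (ρ₁ g : Matrix (Fin 9) (Fin 9) F))ᵀ *
          ((B : Matrix (Fin 9) (Fin 9) F) * (ρ₁ g : Matrix (Fin 9) (Fin 9) F)).map σ := by
          rw [Matrix.transpose_mul, Matrix.map_mul]
          simp only [Matrix.mul_assoc]
      _ = (B : Matrix (Fin 9) (Fin 9) F)ᵀ * ((ρ₂ g : Matrix (Fin 9) (Fin 9) F)ᵀ *
          (ρ₂ g : Matrix (Fin 9) (Fin 9) F).map σ) * (B : Matrix (Fin 9) (Fin 9) F).map σ := by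
          rw [h2, Matrix.transpose_mul, Matrix.map_mul]
          simp only [Matrix.mul_assoc]
      _ = _ := by rw [h1, Matrix.mul_one]
  obtain ⟨c, hc⟩ := Cfsg.Agent.H906.exists_smul_of_invariant (absIrr ρ₁ h₁) σ
    (M := (1 : Matrix (Fin 9) (Fin 9) F)) isUnit_one (by
      rintro _ ⟨g, rfl⟩
      rw [Matrix.mul_one]
      exact mem_UU.1 (hu₁ g)) (by
      rintro _ ⟨g, rfl⟩
      exact hinv g)
  have hMT : (((B : Matrix (Fin 9) (Fin 9) F)ᵀ * (B : Matrix (Fin 9) (Fin 9) F).map σ)ᵀ).map σ =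
      (B : Matrix (Fin 9) (Fin 9) F)ᵀ * (B : Matrix (Fin 9) (Fin 9) F).map σ := by
    have h3 : (((B : Matrix (Fin 9) (Fin 9) F)ᵀ).map σ).map σ = (B : Matrix (Fin 9) (Fin 9) F)ᵀ := by
      ext i j
      rw [Matrix.map_apply, Matrix.map_apply, hσσ]
    rw [Matrix.transpose_mul, Matrix.transpose_transpose, Matrix.map_mul, ← Matrix.transpose_map, h3]
  rw [hc] at hMT
  have hcc : σ c = c := by
    have h4 := congrFun (congrFun hMT 0) 0
    rw [Matrix.map_apply, Matrix.transpose_apply, Matrix.smul_apply, Matrix.one_apply_eq, smul_eq_mul,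
      mul_one] at h4
    exact h4
  have hc0 : c ≠ 0 := by
    rintro rfl
    rw [zero_smul] at hc
    have h5 : (B : Matrix (Fin 9) (Fin 9) F).map σ = 0 := by
      have h6 : IsUnit ((B : Matrix (Fin 9) (Fin 9) F))ᵀ := (Matrix.isUnit_transpose _).2 B.isUnit
      exact (h6.mul_right_eq_zero).1 hc
    have h7 : (1 : Matrix (Fin 9) (Fin 9) F).map σ = 0 := by
      rw [← hBB, Matrix.map_mul, h5, Matrix.zero_mul]
    have h8 := congrFun (congrFun h7 0) 0
    rw [Matrix.map_apply, Matrix.one_apply_eq, map_one] at h8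
    exact one_ne_zero h8
  rw [hσ] at hcc
  have hc1 : c = 1 := by
    have h9 : c * (c - 1) = 0 := by linear_combination hcc
    exact sub_eq_zero.1 ((mul_eq_zero.1 h9).resolve_left hc0)
  rw [mem_UU, hc, hc1, one_smul]

/-- The conjugate of `3·J₃`. -/
noncomputable def JJ (ω : F) (B : GL (Fin 9) F) : Subgroup (GL (Fin 9) F) :=
  ((threeJ3 F ω).map (glReindex e9).toMonoidHom).map (MulAut.conj B).toMonoidHom

theorem mem_JJ {ω : F} {B x : GL (Fin 9) F} : x ∈ JJ ω B ↔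
    ∃ y ∈ threeJ3 F ω, x = B * glReindex e9 y * B⁻¹ := by
  constructor
  · rintro ⟨_, ⟨y, hy, rfl⟩, rfl⟩
    exact ⟨y, hy, rfl⟩
  · rintro ⟨y, hy, rfl⟩
    exact ⟨_, ⟨y, hy, rfl⟩, rfl⟩

theorem card_JJ [Fintype F] (hF : Fintype.card F = 4) {ω : F} (H : Good ω) (B : GL (Fin 9) F) :
    Nat.card (JJ ω B) = 150698880 := by
  unfold JJ
  rw [Subgroup.card_map_of_injective (f := (MulAut.conj B).toMonoidHom) (MulAut.conj B).injective,
    Subgroup.card_map_of_injective (f := (glReindex e9 : GL F9 F ≃* GL (Fin 9) F).toMonoidHom)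
      (glReindex e9).injective,
    Cfsg.Agent.J3.Order.card_threeJ3 hF H]

theorem JJ_le [Fintype F] (hF : Fintype.card F = 4) {ω : F} (H : Good ω) {σ : F ≃+* F}
    (hσ : ∀ x, σ x = x ^ 2) {B : GL (Fin 9) F} (hB : B ∈ UU (Fin 9) σ) :
    JJ ω B ≤ Cfsg.GU 9 F 2 ⊓ specialLinear (Fin 9) F := by
  intro x hx
  obtain ⟨y, hy, rfl⟩ := mem_JJ.1 hx
  refine ⟨?_, ?_⟩
  · exact (mem_GU_iff hσ).2
      (mul_mem (mul_mem hB ((reindex_mem e9).2 (threeJ3_le hF H hσ hy))) (inv_mem hB))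
  · change Matrix.GeneralLinearGroup.det (B * glReindex e9 y * B⁻¹) = 1
    rw [map_mul, map_mul, map_inv, det_reindex, det_eq_one hF H hy, mul_one, mul_inv_cancel]

/-- Scalars are in the conjugate of `3·J₃`. -/
theorem scalar_mem_JJ [Fintype F] (hF : Fintype.card F = 4) {ω : F} (H : Good ω) (B : GL (Fin 9) F)
    {z : GL (Fin 9) F} {c : F} (hz : (z : Matrix (Fin 9) (Fin 9) F) = c • 1) : z ∈ JJ ω B := by
  have h2 : z * B = B * z := by
    apply Units.ext
    rw [Units.val_mul, Units.val_mul, hz, Matrix.smul_mul, Matrix.one_mul, Matrix.mul_smul, Matrix.mul_one]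
  refine mem_JJ.2 ⟨(glReindex e9).symm z, ?_, ?_⟩
  · refine scalar_mem hF H (c := c) ?_
    have h3 : ((glReindex e9).symm z : Matrix F9 F9 F) =
        (Matrix.reindexAlgEquiv F F e9).symm (z : Matrix (Fin 9) (Fin 9) F) := rfl
    rw [h3, hz, map_smul, map_one]
  · rw [MulEquiv.apply_symm_apply, ← h2, mul_inv_cancel_right]

/-- The product of scalars and the image of `SL₂(19)` is too small. -/
theorem card_small [Fintype F] (hF : Fintype.card F = 4) (ρ : S19 →* GL (Fin 9) F)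
    {J : Subgroup (GL (Fin 9) F)} (h : ∀ x ∈ J, ∃ (g : S19) (c : F),
      (x : Matrix (Fin 9) (Fin 9) F) = c • (ρ g : Matrix (Fin 9) (Fin 9) F)) :
    Nat.card J < 150698880 := by
  classical
  choose g c hgc using fun x : J => h x x.2
  have hinj : Function.Injective (fun x : J => (g x, c x)) := by
    intro x y hxy
    have h1 : g x = g y := congrArg Prod.fst hxy
    have h2 : c x = c y := congrArg Prod.snd hxy
    apply Subtype.ext
    apply Units.ext
    rw [hgc x, hgc y, h1, h2]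
  have h1 : Nat.card J ≤ Nat.card (S19 × F) := Nat.card_le_card_of_injective _ hinj
  have h2 : Nat.card S19 ≤ 130321 := by
    have h3 : Nat.card S19 ≤ Nat.card (Matrix (Fin 2) (Fin 2) (ZMod 19)) :=
      Nat.card_le_card_of_injective (fun g : S19 => (g : Matrix (Fin 2) (Fin 2) (ZMod 19)))
        Subtype.val_injective
    have h4 : Nat.card (Matrix (Fin 2) (Fin 2) (ZMod 19)) = 130321 := by
      unfold Matrix
      rw [Nat.card_fun, Nat.card_fun, Nat.card_eq_fintype_card, Nat.card_eq_fintype_card, ZMod.card,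
        Fintype.card_fin]
      norm_num
    omega
  rw [Nat.card_prod, Nat.card_eq_fintype_card (α := F), hF] at h1
  omega

theorem charP_two [Fintype F] (hF : Fintype.card F = 4) : CharP F 2 := by
  have h1 : ((4 : ℕ) : F) = 0 := by rw [← hF]; exact Nat.cast_card_eq_zero F
  have h2 : (2 : F) = 0 := by
    have h3 : (2 : F) * 2 = 0 := by
      have : ((4 : ℕ) : F) = 2 * 2 := by push_cast; norm_num
      rw [← this]; exact h1
    rcases mul_eq_zero.1 h3 with h | h <;> exact h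
  exact CharTwo.of_one_ne_zero_of_two_eq_zero one_ne_zero h2

/-- The Frobenius of `F_4`. -/
theorem exists_frob [Fintype F] (hF : Fintype.card F = 4) : ∃ σ : F ≃+* F, (∀ x, σ x = x ^ 2) ∧
    ∀ x, σ (σ x) = x := by
  have h2 := charP_two hF
  have hp : Fact (Nat.Prime 2) := ⟨Nat.prime_two⟩
  refine ⟨RingEquiv.ofBijective (frobenius F 2)
    (Finite.injective_iff_bijective.1 (frobenius F 2).injective), fun x => rfl, fun x => ?_⟩
  change (x ^ 2) ^ 2 = x
  rw [← pow_mul, show 2 * 2 = Fintype.card F by rw [hF], FiniteField.pow_card]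

/-- **`L₂(19)` in `SU₉(2)`.** -/
theorem not_core [Fintype F] (hF : Fintype.card F = 2 ^ 2) {H P : Subgroup (GL (Fin 9) F)}
    (hH : IsMaximalIn (Cfsg.GU 9 F 2 ⊓ specialLinear (Fin 9) F) H)
    (hP : IsResidualCore H P)
    (e : Soc P ≃* Matrix.ProjectiveSpecialLinearGroup (Fin 2) (ZMod 19)) : False := by
  have hF4 : Fintype.card F = 4 := by rw [hF]; norm_num
  have hchar := charP_two hF4
  have hC : Core P := core_of_residual hP
  obtain ⟨σ, hσ, hσσ⟩ := exists_frob hF4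
  obtain ⟨ρ, hρ, he⟩ := l2_rep hC (K := ZMod 19) (by rw [ZMod.card]; norm_num)
    (by rw [ZMod.card]; norm_num) e
  have hmem : ∀ g, ρ g ∈ P := fun g => by rw [← hρ]; exact ⟨g, rfl⟩
  have hker : ∀ g, ρ g = 1 → pr g = 1 := by
    intro g hg
    have h1 := he g (hmem g)
    have h2 : (⟨ρ g, hmem g⟩ : P) = 1 := Subtype.ext hg
    rw [h2, map_one, map_one] at h1
    exact h1.symm
  have hρ1 : ρ ≠ 1 := by
    intro h
    have h1 := hker (u 1) (by rw [h]; rfl)
    have h2 := (QuotientGroup.eq_one_iff (u (1 : ZMod 19))).1 h1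
    obtain ⟨r, -, hr⟩ := Matrix.SpecialLinearGroup.mem_center_iff.1 h2
    have h3 := congrFun (congrFun hr 0) 1
    rw [u_coe] at h3
    simp at h3
  have hom := om ρ hρ1
  have hgood : Good ((ρ (u 1) : Matrix (Fin 9) (Fin 9) F).trace) := good_of_card hF4 hom
  obtain ⟨ρ₂, hρ₂, htr, hρ₂1⟩ := exists_rho hF4 hgood
  obtain ⟨B, hB⟩ := exists_conj ρ₂ ρ hρ₂1 hρ1 htr
  have hHU : ∀ x ∈ H, x ∈ UU (Fin 9) σ := fun x hx => (mem_GU_iff hσ).1 (hH.1.le hx).1
  have hBU : B ∈ UU (Fin 9) σ := by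
    refine conj_unitary hρ₂1 hσ hσσ (fun g => ?_) (fun g => hHU _ (hP.le (hmem g))) hB
    obtain ⟨y, hy, h1⟩ := hρ₂ g
    rw [← h1]
    exact (reindex_mem e9).2 (threeJ3_le hF4 hgood hσ hy)
  set J := JJ ((ρ (u 1) : Matrix (Fin 9) (Fin 9) F).trace) B with hJ
  have hρJ : ∀ g, ρ g ∈ J := by
    intro g
    obtain ⟨y, hy, h1⟩ := hρ₂ g
    refine mem_JJ.2 ⟨y, hy, ?_⟩
    rw [hB g, ← h1]
    rfl
  have hsm : ∀ x ∈ H, ∃ (g : S19) (c : F),
      (x : Matrix (Fin 9) (Fin 9) F) = c • (ρ g : Matrix (Fin 9) (Fin 9) F) := by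
    intro x hx
    refine eq_smul_of_normalizes ρ hρ1 hker x ?_ ?_
    · rw [hρ]
      exact hP.normal x hx
    · rw [hρ]
      intro y hy
      have h1 := hP.normal x⁻¹ (inv_mem hx) y hy
      rwa [inv_inv] at h1
  have hHJ : H ≤ J := by
    intro x hx
    obtain ⟨g, c, hgc⟩ := hsm x hx
    have h1 : x * (ρ g)⁻¹ ∈ J := by
      refine scalar_mem_JJ hF4 hgood B (c := c) ?_
      rw [Units.val_mul, hgc, Matrix.smul_mul, ← Units.val_mul, mul_inv_cancel, Units.val_one]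
    have h2 := mul_mem h1 (hρJ g)
    rwa [inv_mul_cancel_right] at h2
  have hcard := card_JJ hF4 hgood B
  rcases hH.2 J hHJ (JJ_le hF4 hgood hσ hBU) with h | h
  · have h1 := card_small hF4 ρ hsm
    rw [← h, hJ, hcard] at h1
    omega
  · have h1 : (dia : (Fin 8 → Fˣ) →* GL (Fin 9) F).range ≤ J := by
      rw [h]
      rintro _ ⟨d, rfl⟩
      exact ⟨(mem_GU_iff hσ).2 (dia_mem hF4 hσ d), dia_det d⟩
    have h2 := Subgroup.card_dvd_of_le h1
    rw [card_dia hF4, hJ, hcard] at h2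
    norm_num at h2

end Cfsg.Agent.H571.JMain
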