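import Cfsg.Agent.H571.AbSylTwo
import Cfsg.Agent.H571.AbSylPsl
import Cfsg.Agent.H722.RealP

/-!
# S2266 and S2267 from the table of real `p`-elements (helper571)
-/

set_option autoImplicit false

namespace Cfsg.Agent.H571.AbSylMain

open Subgroup Cfsg
open Cfsg.Agent.H722.RealP

universe u

/-- The conclusion of the table of real elements for the group `X` and the prime `p`. -/
def Row (p : ℕ) (X : Type*) [Group X] : Prop :=
  HasReal p X ∨ (∀ P : Sylow p X, IsCyclic (P : Subgroup X)) ∨
    ∃ (F : Type) (_ : Field F) (_ : Fintype F), CharP F p ∧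
      Nonempty (X ≃* Matrix.ProjectiveSpecialLinearGroup (Fin 2) F)

variable {X : Type u} [Group X] [Finite X]

theorem abelian_case [IsSimpleGroup X] (h : IsMulCommutative X) (H : Subgroup X) : IsCyclic H := by
  have : IsCyclic X := by
    let _ : CommGroup X := { (inferInstance : Group X) with mul_comm := fun a b => h.is_comm.comm a b }
    exact IsSimpleGroup.isCyclic
  infer_instance

theorem not_dvd_case {p : ℕ} [Fact p.Prime] (h : ¬ p ∣ Nat.card X) (P : Sylow p X) :
    IsCyclic (P : Subgroup X) := by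
  obtain ⟨n, hn⟩ := IsPGroup.iff_card.1 P.isPGroup'
  rcases n with _ | n
  · rw [pow_zero] at hn
    have := (Nat.card_eq_one_iff_unique.1 hn).1
    exact isCyclic_of_subsingleton
  · exfalso
    apply h
    exact (dvd_pow_self p (Nat.succ_ne_zero n)).trans (hn ▸ (P : Subgroup X).card_subgroup_dvd_card)

theorem real_even {p : ℕ} [Fact p.Prime] (hp2 : p ≠ 2) (P : Sylow p X)
    (hP : IsMulCommutative (P : Subgroup X)) (h : HasReal p X) :
    2 ∣ (centralizer ((P : Subgroup X) : Set X)).relIndex (normalizer ((P : Subgroup X) : Set X)) := by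
  obtain ⟨x, hx, hr⟩ := h.isConj
  exact Cfsg.Agent.H571.AbSylTwo.even_of_real hp2 P hP hx hr

/-- S2266 -/
theorem automizer [IsSimpleGroup X] {p : ℕ} [Fact p.Prime]
    (T : ¬ IsMulCommutative X → p ≠ 2 → p ∣ Nat.card X → Row p X)
    (P : Sylow p X) (hP : IsMulCommutative (P : Subgroup X)) :
    2 ∣ ((Subgroup.centralizer ((P : Subgroup X) : Set X)).subgroupOf (Subgroup.normalizer ((P : Subgroup X) : Set X))).index ∨
    IsCyclic (P : Subgroup X) ∨ IsKleinFour (P : Subgroup X) ∨
    (∃ (F : Type) (_ : Field F) (_ : Fintype F), CharP F p ∧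
      Nonempty (X ≃* Matrix.ProjectiveSpecialLinearGroup (Fin 2) F)) ∨
    (p = 2 ∧ (Cfsg.IsJ1 X ∨ Cfsg.IsRee X) ∧ ((Subgroup.centralizer ((P : Subgroup X) : Set X)).subgroupOf (Subgroup.normalizer ((P : Subgroup X) : Set X))).index = 21 ∧
      ∃ a ∈ Subgroup.normalizer ((P : Subgroup X) : Set X), ∃ b ∈ Subgroup.normalizer ((P : Subgroup X) : Set X),
        a * b * a⁻¹ * b⁻¹ ∉ Subgroup.centralizer ((P : Subgroup X) : Set X)) := by
  by_cases hp : p = 2
  · subst hp
    rcases Cfsg.Agent.H571.AbSylTwo.main P hP with h | h | h | ⟨h1, h2, h3⟩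
    · exact Or.inr (Or.inl h)
    · exact Or.inr (Or.inr (Or.inl h))
    · exact Or.inr (Or.inr (Or.inr (Or.inl h)))
    · exact Or.inr (Or.inr (Or.inr (Or.inr ⟨rfl, h1, h2, h3⟩)))
  · by_cases hna : IsMulCommutative X
    · exact Or.inr (Or.inl (abelian_case hna _))
    by_cases hd : p ∣ Nat.card X
    · rcases T hna hp hd with h | h | h
      · exact Or.inl (real_even hp P hP h)
      · exact Or.inr (Or.inl (h P))
      · exact Or.inr (Or.inr (Or.inr (Or.inl h)))
    · exact Or.inr (Or.inl (not_dvd_case hd P))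

/-- S2267 -/
theorem prime_automizer [IsSimpleGroup X] {p : ℕ} [Fact p.Prime]
    (T : ¬ IsMulCommutative X → p ≠ 2 → p ∣ Nat.card X → Row p X)
    (h3347 : ∀ P : Sylow p X, p ≠ 2 → IsMulCommutative (P : Subgroup X) → ¬ IsCyclic (P : Subgroup X) →
      ((Subgroup.centralizer ((P : Subgroup X) : Set X)).subgroupOf (Subgroup.normalizer ((P : Subgroup X) : Set X))).index = 2 →
      False)
    (P : Sylow p X) (hP : IsMulCommutative (P : Subgroup X))
    (hr : (((Subgroup.centralizer ((P : Subgroup X) : Set X)).subgroupOf (Subgroup.normalizer ((P : Subgroup X) : Set X))).index).Prime) :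
    IsCyclic (P : Subgroup X) ∨ IsKleinFour (P : Subgroup X) ∨
    ((p = 2 ∨ p = 3) ∧ ∃ (F : Type) (_ : Field F) (_ : Fintype F), CharP F p ∧
      Nonempty (X ≃* Matrix.ProjectiveSpecialLinearGroup (Fin 2) F)) := by
  by_cases hc : IsCyclic (P : Subgroup X)
  · exact Or.inl hc
  by_cases hp : p = 2
  · subst hp
    rcases Cfsg.Agent.H571.AbSylTwo.main P hP with h | h | h | ⟨-, h2, -⟩
    · exact Or.inl h
    · exact Or.inr (Or.inl h)
    · exact Or.inr (Or.inr ⟨Or.inl rfl, h⟩)
    · exfalso
      change (centralizer ((P : Subgroup X) : Set X)).relIndex (normalizer ((P : Subgroup X) : Set X)) |>.Prime at hr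
      rw [h2] at hr
      norm_num at hr
  · by_cases hna : IsMulCommutative X
    · exact Or.inl (abelian_case hna _)
    by_cases hd : p ∣ Nat.card X
    · rcases T hna hp hd with h | h | h
      · exfalso
        have h1 := real_even hp P hP h
        exact h3347 P hp hP hc ((Nat.prime_dvd_prime_iff_eq Nat.prime_two hr).1 h1).symm
      · exact Or.inl (h P)
      · obtain ⟨F, i1, i2, i3, ⟨e⟩⟩ := h
        rcases Cfsg.Agent.H571.AbSylPsl.eq_three_or_cyclic hp e P hr with h3 | h3
        · exact Or.inr (Or.inr ⟨Or.inr h3, F, i1, i2, i3, ⟨e⟩⟩)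
        · exact Or.inl h3
    · exact Or.inl (not_dvd_case hd P)

end Cfsg.Agent.H571.AbSylMain
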