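import Cfsg.Agent.H345.STA
import Cfsg.Agent.H571.AbSylMain

/-!
# S2267 from `AbIrr` (helper571)

If the normaliser of an abelian Sylow `p`-subgroup `P` (`p` odd) of a simple group acts irreducibly on `Ω₁(P)`
(`H795.AbIrr`) and `|N(P) : C(P)| = 2`, then `P` is cyclic.
-/

set_option autoImplicit false

namespace Cfsg.Agent.H571.AbSylIrr

open Cfsg Subgroup Cfsg.Agent.H795 Cfsg.Agent.H345.STA

/-- a nonabelian simple group has no proper normal subgroup of `p`-power index (helper345 / S5435) -/
theorem pResidual_eq_top {L : Type*} [Group L] [Finite L] [IsSimpleGroup L] (hL : ¬ IsMulCommutative L)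
    (p : ℕ) [Fact p.Prime] : Cfsg.pResidual p L = ⊤ := by
  have hn : (Cfsg.pResidual p L).Normal := by
    constructor
    intro n hn g
    rw [Cfsg.pResidual] at hn ⊢
    induction hn using Subgroup.closure_induction with
    | mem x hx =>
      apply Subgroup.subset_closure
      show Nat.Coprime (orderOf (g * x * g⁻¹)) p
      have : orderOf (g * x * g⁻¹) = orderOf x := MulEquiv.orderOf_eq (MulAut.conj g) x
      rw [this]; exact hx
    | one => simp
    | mul x y _ _ hx hy =>
      have : g * (x * y) * g⁻¹ = (g * x * g⁻¹) * (g * y * g⁻¹) := by group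
      rw [this]; exact Subgroup.mul_mem _ hx hy
    | inv x _ hx =>
      have : g * x⁻¹ * g⁻¹ = (g * x * g⁻¹)⁻¹ := by group
      rw [this]; exact Subgroup.inv_mem _ hx
  rcases hn.eq_bot_or_eq_top with h | h
  · exfalso
    apply hL
    have hpg : IsPGroup p L := by
      rw [IsPGroup.iff_card]
      have hdvd : ∀ q : ℕ, q.Prime → q ∣ Nat.card L → q = p := by
        intro q hq hqd
        by_contra hne
        have : Fact q.Prime := ⟨hq⟩
        obtain ⟨x, hx⟩ := exists_prime_orderOf_dvd_card' q hqd
        have hxm : x ∈ Cfsg.pResidual p L := by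
          apply Subgroup.subset_closure
          show Nat.Coprime (orderOf x) p
          rw [hx]
          exact (Nat.coprime_primes hq Fact.out).2 hne
        rw [h, Subgroup.mem_bot] at hxm
        rw [hxm, orderOf_one] at hx
        exact hq.one_lt.ne hx
      exact ⟨_, Nat.eq_prime_pow_of_unique_prime_dvd (Nat.card_pos.ne') (fun hq hd => hdvd _ hq hd)⟩
    have hc : Nontrivial (Subgroup.center L) := hpg.center_nontrivial
    have hct : Subgroup.center L = ⊤ := by
      rcases (inferInstance : (Subgroup.center L).Normal).eq_bot_or_eq_top with h1 | h1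
      · exact absurd h1 ((Subgroup.nontrivial_iff_ne_bot _).1 hc)
      · exact h1
    exact ⟨⟨fun a b => by
      have ha : b ∈ Subgroup.center L := by rw [hct]; trivial
      exact (Subgroup.mem_center_iff.1 ha a)⟩⟩
  · exact h

/-- `|N(P) : C(P)| = 2` is impossible for a noncyclic abelian Sylow subgroup. -/
theorem index_ne_two {X : Type*} [Group X] [Finite X] [IsSimpleGroup X] (hna : ¬ IsMulCommutative X) {p : ℕ}
    [Fact p.Prime] (h : AbIrr p X) (P : Sylow p X) (hP : IsMulCommutative (P : Subgroup X))
    (hc : ¬ IsCyclic (P : Subgroup X))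
    (h2 : ((Subgroup.centralizer ((P : Subgroup X) : Set X)).subgroupOf
      (Subgroup.normalizer ((P : Subgroup X) : Set X))).index = 2) : False :=
  hc (isCyclic_of_PM h P hP (PM_of_index P hP (pResidual_eq_top hna p) h2))

end Cfsg.Agent.H571.AbSylIrr
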