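import Mathlib
import Cfsg.Agent.H532.CopAct
import Cfsg.Agent.H988.CPi

/-!
# Invariant `π`-subgroups for solvable `π`-groups of automorphisms (helper571)

`exists_inv_pi` : a solvable `π`-group `A` of automorphisms of a finite group `N` which is not a `π'`-group leaves
invariant some `t`-subgroup `≠ 1`, `t ∈ π`. There is no coprimality hypothesis.
-/

set_option autoImplicit false

namespace Cfsg.Agent.H571.DExt

open Subgroup Cfsg Cfsg.Agent.H988.CPi
open scoped Pointwise commutatorElement

universe u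

/-- A nontrivial finite solvable group has a nontrivial normal `s`-subgroup. -/
theorem exists_normal_pgroup (A : Type u) [Group A] [Finite A] (hA1 : Nat.card A ≠ 1) (hA : Group.IsSolvable A) :
    ∃ s : ℕ, s.Prime ∧ ∃ M : Subgroup A, M.Normal ∧ M ≠ ⊥ ∧ IsPGroup s M := by
  classical
  have hex : ∃ n : ℕ, derivedSeries A n = ⊥ := hA.solvable
  let m := Nat.find hex
  have hm : derivedSeries A m = ⊥ := Nat.find_spec hex
  have hm0 : m ≠ 0 := by
    intro h0
    rw [h0, derivedSeries_zero] at hm
    exact hA1 (by rw [← Subgroup.card_top, hm, Subgroup.card_bot])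
  obtain ⟨k, hk⟩ := Nat.exists_eq_succ_of_ne_zero hm0
  have hkne : derivedSeries A k ≠ ⊥ := fun h => Nat.find_min hex (by omega : k < m) h
  set D := derivedSeries A k with hD
  have hDn : D.Normal := inferInstance
  have hcomm : ∀ x ∈ D, ∀ y ∈ D, x * y = y * x := by
    intro x hx y hy
    have h1 : ⁅x, y⁆ ∈ derivedSeries A (k + 1) := by
      rw [derivedSeries_succ]
      exact Subgroup.commutator_mem_commutator hx hy
    rw [← Nat.succ_eq_add_one, ← hk, hm, Subgroup.mem_bot] at h1
    exact commutatorElement_eq_one_iff_mul_comm.mp h1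
  have hcD : Nat.card D ≠ 1 := fun h => hkne (Subgroup.eq_bot_of_card_eq D h)
  obtain ⟨s, hs, hsd⟩ := Nat.exists_prime_and_dvd hcD
  refine ⟨s, hs, ⟨⟨⟨{x | x ∈ D ∧ x ^ s = 1}, ?_⟩, ?_⟩, ?_⟩, ?_, ?_, ?_⟩
  · rintro a b ⟨ha, ha'⟩ ⟨hb, hb'⟩
    exact ⟨D.mul_mem ha hb, by rw [(show Commute a b from hcomm a ha b hb).mul_pow, ha', hb', one_mul]⟩
  · exact ⟨D.one_mem, one_pow s⟩
  · rintro a ⟨ha, ha'⟩
    exact ⟨D.inv_mem ha, by rw [inv_pow, ha', inv_one]⟩
  · refine ⟨?_⟩
    rintro a ⟨ha, ha'⟩ g
    refine ⟨hDn.conj_mem a ha g, ?_⟩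
    rw [conj_pow, ha', mul_one, mul_inv_cancel]
  · intro hbot
    have := Fact.mk hs
    obtain ⟨x, hx⟩ := exists_prime_orderOf_dvd_card' (G := D) s hsd
    have h1 : (x : A) ∈ (⊥ : Subgroup A) := by
      rw [← hbot]
      refine ⟨x.2, ?_⟩
      rw [← Subgroup.coe_pow, ← hx, pow_orderOf_eq_one, Subgroup.coe_one]
    rw [Subgroup.mem_bot] at h1
    have h2 : x = 1 := Subtype.ext h1
    rw [h2, orderOf_one] at hx
    exact hs.one_lt.ne hx
  · intro x
    exact ⟨1, Subtype.ext (by rw [pow_one, Subgroup.coe_pow]; exact x.2.2)⟩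

/-- Restriction of the action of a subgroup of `MulAut N` to an invariant subgroup. -/
@[reducible] def actSub {A N : Type*} [Group A] [Group N] [MulDistribMulAction A N] (C : Subgroup N)
    (hC : ∀ a : A, ∀ x ∈ C, a • x ∈ C) : MulDistribMulAction A C where
  smul a x := ⟨a • (x : N), hC a x x.2⟩
  one_smul x := Subtype.ext (one_smul A (x : N))
  mul_smul a b x := Subtype.ext (mul_smul a b (x : N))
  smul_mul a x y := Subtype.ext (smul_mul' a (x : N) (y : N))
  smul_one a := Subtype.ext (smul_one a)

/-- The fixed points of a subgroup `M ≤ A` in `N`. -/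
def fixM {A N : Type*} [Group A] [Group N] [MulDistribMulAction A N] (M : Subgroup A) : Subgroup N where
  carrier := {x | ∀ m ∈ M, m • x = x}
  mul_mem' {x y} hx hy m hm := by rw [smul_mul', hx m hm, hy m hm]
  one_mem' m _ := smul_one m
  inv_mem' {x} hx m hm := by rw [smul_inv', hx m hm]

theorem fixM_inv {A N : Type*} [Group A] [Group N] [MulDistribMulAction A N] (M : Subgroup A) [hM : M.Normal]
    (a : A) (x : N) (hx : x ∈ fixM (N := N) M) : a • x ∈ fixM (N := N) M := by
  intro m hm
  have h1 := hx (a⁻¹ * m * a) (by simpa using hM.conj_mem m hm a⁻¹)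
  rw [← mul_smul, show m * a = a * (a⁻¹ * m * a) by group, mul_smul, h1]

/-- An `s`-group acting on a finite group of order divisible by `s` has a fixed point group of order divisible by `s`. -/
theorem dvd_card_fixM {A N : Type*} [Group A] [Finite A] [Group N] [Finite N] [MulDistribMulAction A N] {s : ℕ}
    [hs : Fact s.Prime] (M : Subgroup A) (hM : IsPGroup s M) (hd : s ∣ Nat.card N) :
    s ∣ Nat.card (fixM (N := N) M) := by
  have h1 := hM.card_modEq_card_fixedPoints N
  have h2 : Nat.card (MulAction.fixedPoints M N) = Nat.card (fixM (N := N) M) := by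
    refine Nat.card_congr (Equiv.subtypeEquivRight fun x => ?_)
    rw [MulAction.mem_fixedPoints]
    exact ⟨fun h m hm => h ⟨m, hm⟩, fun h m => h m m.2⟩
  rw [h2] at h1
  exact (Nat.modEq_zero_iff_dvd.mp (h1.symm.trans (Nat.modEq_zero_iff_dvd.mpr hd)))

theorem exists_inv_pi_aux (π : Set ℕ) (n : ℕ) : ∀ (N : Type u) [Group N] [Finite N] (A : Subgroup (MulAut N)),
    Nat.card A = n → Group.IsSolvable A → PiN π (Nat.card A) → ¬ PiN' π (Nat.card N) →
    ∃ t : ℕ, t.Prime ∧ t ∈ π ∧ ∃ Y : Subgroup N, Y ≠ ⊥ ∧ IsPGroup t Y ∧ ∀ a ∈ A, ∀ y ∈ Y, a • y ∈ Y := by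
  induction n using Nat.strong_induction_on with
  | _ n ih =>
    intro N _ _ A hn hA hπ hN
    have hN' : ∃ t : ℕ, t.Prime ∧ t ∈ π ∧ t ∣ Nat.card N := by
      unfold PiN' at hN
      push Not at hN
      obtain ⟨t, h1, h2, h3⟩ := hN
      exact ⟨t, h1, h2, h3⟩
    obtain ⟨t, ht, htπ, htN⟩ := hN'
    have := Fact.mk ht
    by_cases hA1 : Nat.card A = 1
    · -- trivial action
      obtain ⟨x, hx⟩ := exists_prime_orderOf_dvd_card' (G := N) t htN
      refine ⟨t, ht, htπ, zpowers x, ?_, ?_, ?_⟩
      · intro h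
        rw [zpowers_eq_bot] at h
        rw [h, orderOf_one] at hx
        exact ht.one_lt.ne hx
      · rw [IsPGroup.iff_card]
        exact ⟨1, by rw [Nat.card_zpowers, hx, pow_one]⟩
      · intro a ha y hy
        have h1 : A = ⊥ := Subgroup.eq_bot_of_card_eq A hA1
        rw [h1, mem_bot] at ha
        rw [ha, one_smul]; exact hy
    · obtain ⟨s, hs, M, hMn, hM1, hMs⟩ := exists_normal_pgroup A hA1 hA
      have := Fact.mk hs
      have hMc : Nat.card M ≠ 1 := fun h => hM1 (Subgroup.eq_bot_of_card_eq M h)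
      have hsM : s ∣ Nat.card M := by
        obtain ⟨k, hk⟩ := IsPGroup.iff_card.mp hMs
        rcases Nat.eq_zero_or_pos k with h0 | h0
        · rw [h0, pow_zero] at hk; exact absurd hk hMc
        · rw [hk]; exact dvd_pow_self s h0.ne'
      have hsπ : s ∈ π := hπ s hs (hsM.trans (Subgroup.card_subgroup_dvd_card M))
      let C : Subgroup N := fixM (N := N) M
      have hC : ∀ a : A, ∀ x ∈ C, a • x ∈ C := fun a x hx => fixM_inv M a x hx
      let act : MulDistribMulAction A C := actSub C hC
      by_cases hCπ : PiN' π (Nat.card C)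
      · -- `C` is a `π'`-group
        have hsN : ¬ s ∣ Nat.card N := fun h => hCπ s hs hsπ (dvd_card_fixM M hMs h)
        have hcopM : (Nat.card M).Coprime (Nat.card N) := by
          obtain ⟨k, hk⟩ := IsPGroup.iff_card.mp hMs
          rw [hk]
          exact Nat.Coprime.pow_left k ((Nat.Prime.coprime_iff_not_dvd hs).mpr hsN)
        have hMsol : Group.IsSolvable M := inferInstance
        obtain ⟨⟨P₀, hP₀⟩, htr⟩ := Cfsg.Agent.H532.CopAct.inv_sylow (A := M) (G := N) hcopM (Or.inl hMsol) t
        let Ω := {P : Sylow t N // ∀ m : M, m • P = P}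
        let actC : MulAction C Ω :=
          { smul := fun c P => ⟨(c : N) • P.1, fun m => by
              have h1 := Cfsg.Agent.H532.CopAct.smul_conj_sylow (A := M) (G := N) m (c : N) P.1
              have h2 : m • (c : N) = (c : N) := c.2 m m.2
              have h3 : m • P.1 = P.1 := P.2 m
              rw [h2] at h1
              exact h1.trans (congrArg (fun R : Sylow t N => (c : N) • R) h3)⟩
            one_smul := fun P => Subtype.ext (one_smul N P.1)
            mul_smul := fun c d P => Subtype.ext (mul_smul (c : N) (d : N) P.1) }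
        let actA : MulAction A Ω :=
          { smul := fun a P => ⟨a • P.1, fun m => by
              have h1 := hMn.conj_mem m m.2 a⁻¹
              have h2 : (⟨a⁻¹ * m * a, by simpa using h1⟩ : M) • P.1 = P.1 := P.2 _
              have h3 : (a⁻¹ * (m : A) * a) • P.1 = P.1 := h2
              show (m : A) • a • P.1 = a • P.1
              rw [← mul_smul, show (m : A) * a = a * (a⁻¹ * m * a) by group, mul_smul, h3]⟩
            one_smul := fun P => Subtype.ext (one_smul A P.1)
            mul_smul := fun a b P => Subtype.ext (mul_smul a b P.1) }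
        have hne : Nonempty Ω := ⟨⟨P₀, hP₀⟩⟩
        obtain ⟨⟨ω, hω⟩, -⟩ := Cfsg.Agent.H532.CopAct.glauberman (A := A) (G := C) (Ω := Ω)
          (by
            intro a c P
            apply Subtype.ext
            exact Cfsg.Agent.H532.CopAct.smul_conj_sylow (A := A) (G := N) a (c : N) P.1)
          (hπ.coprime hCπ) (Or.inl hA)
          (by
            intro P P'
            obtain ⟨g, hg, hg'⟩ := htr P.1 P'.1 P.2 P'.2
            exact ⟨⟨g, fun m hm => hg ⟨m, hm⟩⟩, Subtype.ext hg'⟩)
        refine ⟨t, ht, htπ, (ω.1 : Subgroup N), ?_, ω.1.isPGroup', ?_⟩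
        · intro h
          have h1 := ω.1.card_eq_multiplicity
          have h2 : Nat.card (ω.1 : Subgroup N) = 1 := by rw [h, Subgroup.card_bot]
          have h3 : t ^ (Nat.card N).factorization t = 1 := by rw [← h1]; exact h2
          have h4 : 0 < (Nat.card N).factorization t := ht.factorization_pos_of_dvd Nat.card_pos.ne' htN
          exact absurd h3 (Nat.one_lt_pow h4.ne' ht.one_lt).ne'
        · intro a ha y hy
          have h1 : (⟨a, ha⟩ : A) • ω.1 = ω.1 := congrArg Subtype.val (hω ⟨a, ha⟩)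
          exact Cfsg.Agent.H532.CopAct.smul_mem_of_smul_eq (A := A) (G := N) ω.1
            (fun b => congrArg Subtype.val (hω b)) ⟨a, ha⟩ hy
      · -- induction in `C`
        let f : A →* MulAut C := MulDistribMulAction.toMulAut A C
        have hker : M ≤ f.ker := by
          intro m hm
          rw [MonoidHom.mem_ker]
          ext c
          exact c.2 m hm
        have hcard : Nat.card f.ker * Nat.card f.range = Nat.card A := by
          have h1 := f.ker.card_mul_index
          rwa [Subgroup.index_ker] at h1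
        have hlt : Nat.card f.range < n := by
          rw [← hn, ← hcard]
          have h1 : 1 < Nat.card f.ker := by
            have h2 : Nat.card M ≤ Nat.card f.ker := Nat.le_of_dvd Nat.card_pos (card_dvd_of_le hker)
            have h3 : 0 < Nat.card M := Nat.card_pos
            omega
          have h4 : 0 < Nat.card f.range := Nat.card_pos
          nlinarith
        obtain ⟨t', ht', htπ', Y, hY1, hYt, hYA⟩ := ih _ hlt C f.range rfl
          (Group.isSolvable_of_surjective f.rangeRestrict_surjective)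
          (hπ.of_dvd (Dvd.intro_left _ hcard)) hCπ
        refine ⟨t', ht', htπ', Y.map C.subtype, ?_, hYt.map _, ?_⟩
        · rwa [Ne, Subgroup.map_eq_bot_iff_of_injective _ C.subtype_injective]
        · rintro a ha _ ⟨y, hy, rfl⟩
          refine ⟨f ⟨a, ha⟩ • y, hYA _ ⟨_, rfl⟩ y hy, rfl⟩

/-- **Lemma S.** A solvable `π`-group `A` acting by automorphisms (through `f`) on a finite group `N` which is not a
`π'`-group leaves invariant some `t`-subgroup `≠ 1` with `t ∈ π`. -/
theorem exists_inv_pi {π : Set ℕ} {N : Type u} [Group N] [Finite N] (A : Subgroup (MulAut N))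
    (hA : Group.IsSolvable A) (hπ : PiN π (Nat.card A)) (hN : ¬ PiN' π (Nat.card N)) :
    ∃ t : ℕ, t.Prime ∧ t ∈ π ∧ ∃ Y : Subgroup N, Y ≠ ⊥ ∧ IsPGroup t Y ∧ ∀ a ∈ A, ∀ y ∈ Y, a y ∈ Y :=
  exists_inv_pi_aux π _ N A rfl hA hπ hN

end Cfsg.Agent.H571.DExt
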