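import Cfsg.Agent.H571.DExtB
import Cfsg.Agent.S0581

/-!
# `D_π` and extensions: maximal `π`-subgroups of `XP` (helper571)

* `piN'_normalizer_quot` : `P` a maximal `π`-subgroup of `G`, `X` normal, `PX/X` solvable, `Q = P ∩ X`: then
  `|N_X(Q) : Q|` is a `π'`-number.
-/

set_option autoImplicit false

namespace Cfsg.Agent.H571.DExt

open Subgroup Cfsg Cfsg.Agent.H988.CPi Cfsg.Agent.Solvable.SZ
open scoped Pointwise

variable {π : Set ℕ} {G : Type*} [Group G]

/-- conjugation action of `P` on an invariant subgroup -/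
@[reducible] def actConj (P N : Subgroup G) (h : ∀ p ∈ P, ∀ x ∈ N, p * x * p⁻¹ ∈ N) : MulDistribMulAction P N where
  smul p x := ⟨p * x * (p : G)⁻¹, h p p.2 x x.2⟩
  one_smul x := Subtype.ext (by
    show ((1 : P) : G) * x * ((1 : P) : G)⁻¹ = x
    simp)
  mul_smul p q x := Subtype.ext (by
    show ((p * q : P) : G) * x * ((p * q : P) : G)⁻¹ = p * (q * x * (q : G)⁻¹) * (p : G)⁻¹
    rw [Subgroup.coe_mul]; group)
  smul_mul p x y := Subtype.ext (by
    show (p : G) * ((x * y : N) : G) * (p : G)⁻¹ = (p * x * (p : G)⁻¹) * (p * y * (p : G)⁻¹)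
    rw [Subgroup.coe_mul]; group)
  smul_one p := Subtype.ext (by
    show (p : G) * ((1 : N) : G) * (p : G)⁻¹ = 1
    simp)

variable [Finite G]

/-- **Corollary of Lemma S.** -/
theorem piN'_normalizer_quot (X : Subgroup G) [hXn : X.Normal] {P : Subgroup G} (hP : Maximal (IsPiSubgroup π) P)
    (hsol : Group.IsSolvable (P.map (QuotientGroup.mk' X))) :
    PiN' π ((P ⊓ X).relIndex (normalizer ((P ⊓ X : Subgroup G) : Set G) ⊓ X)) := by
  set Q := P ⊓ X with hQ
  set N := normalizer (Q : Set G) ⊓ X with hN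
  have hQN : Q ≤ N := le_inf le_normalizer inf_le_right
  have hQ'n : (Q.subgroupOf N).Normal := (normal_subgroupOf_iff_le_normalizer hQN).mpr inf_le_left
  set Q' := Q.subgroupOf N with hQ'
  have hPQ : P ≤ normalizer (Q : Set G) := by
    rw [le_normalizer_iff]
    intro h hh k hk
    exact ⟨P.mul_mem (P.mul_mem hh hk.1) (P.inv_mem hh), hXn.conj_mem k hk.2 h⟩
  have hact : ∀ p ∈ P, ∀ x ∈ N, p * x * p⁻¹ ∈ N := fun p hp x hx =>
    ⟨(normalizer (Q : Set G)).mul_mem ((normalizer (Q : Set G)).mul_mem (hPQ hp) hx.1)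
      ((normalizer (Q : Set G)).inv_mem (hPQ hp)), hXn.conj_mem x hx.2 p⟩
  let act : MulDistribMulAction P N := actConj P N hact
  have hinv : ∀ (p : P), ∀ x ∈ Q', p • x ∈ Q' := by
    intro p x hx
    exact ((mem_normalizer_iff.mp (hPQ p.2)) (x : G)).mp hx
  let actQ : MulDistribMulAction P (N ⧸ Q') := Cfsg.Agent.H532.CopAct.quotAct Q' hinv
  let f : P →* MulAut (N ⧸ Q') := MulDistribMulAction.toMulAut P (N ⧸ Q')
  have hf : ∀ (p : P) (n : N), f p (QuotientGroup.mk n) = QuotientGroup.mk (p • n) := fun p n => rfl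
  by_contra hcon
  -- the image is a solvable `π`-group
  have hcard : Nat.card f.ker * Nat.card f.range = Nat.card P := by
    have h1 := f.ker.card_mul_index
    rwa [Subgroup.index_ker] at h1
  have hAπ : PiN π (Nat.card f.range) := PiN.of_dvd hP.1 (Dvd.intro_left _ hcard)
  have hAsol : Group.IsSolvable f.range := by
    let g : P →* P.map (QuotientGroup.mk' X) := (QuotientGroup.mk' X).subgroupMap P
    have hg : Function.Surjective g := (QuotientGroup.mk' X).subgroupMap_surjective P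
    have hker : g.ker ≤ f.rangeRestrict.ker := by
      intro p hp
      rw [MonoidHom.mem_ker] at hp
      have h1 : QuotientGroup.mk' X (p : G) = 1 := congrArg Subtype.val hp
      have h2 : (p : G) ∈ X := (QuotientGroup.eq_one_iff _).mp h1
      have h3 : (p : G) ∈ Q := ⟨p.2, h2⟩
      rw [MonoidHom.ker_rangeRestrict, MonoidHom.mem_ker]
      ext x
      obtain ⟨n, rfl⟩ := QuotientGroup.mk_surjective x
      rw [hf, MulAut.one_apply, QuotientGroup.eq]
      -- `(p n p⁻¹)⁻¹ n ∈ Q`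
      show (((p • n : N)⁻¹ * n : N) : G) ∈ Q
      have h4 : (((p • n : N)⁻¹ * n : N) : G) = (p : G) * ((n : G)⁻¹ * (p : G)⁻¹ * (n : G)) := by
        show ((p : G) * n * (p : G)⁻¹)⁻¹ * n = _
        group
      rw [h4]
      refine Q.mul_mem h3 ?_
      have h5 := (mem_normalizer_iff.mp ((normalizer (Q : Set G)).inv_mem n.2.1) ((p : G)⁻¹)).mp (Q.inv_mem h3)
      simpa using h5
    let l : P.map (QuotientGroup.mk' X) →* f.range := (MonoidHom.liftOfSurjective g hg) ⟨f.rangeRestrict, hker⟩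
    have hl : Function.Surjective l := by
      intro a
      obtain ⟨p, rfl⟩ := f.rangeRestrict_surjective a
      exact ⟨g p, MonoidHom.liftOfRightInverse_comp_apply _ _ _ ⟨f.rangeRestrict, hker⟩ p⟩
    exact Group.isSolvable_of_surjective hl
  obtain ⟨t, ht, htπ, Y, hY1, hYt, hYinv⟩ := exists_inv_pi f.range hAsol hAπ
    (show ¬ PiN' π (Nat.card (N ⧸ Q')) from hcon)
  set Z := (Y.comap (QuotientGroup.mk' Q')).map N.subtype with hZ
  have hYπ : PiN π (Nat.card Y) := by
    have := Fact.mk ht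
    obtain ⟨k, hk⟩ := IsPGroup.iff_card.mp hYt
    intro q hq hqd
    rw [hk] at hqd
    rwa [(Nat.prime_dvd_prime_iff_eq hq ht).mp (hq.dvd_of_dvd_pow hqd)]
  have hZπ : PiN π (Nat.card Z) := by
    rw [hZ, card_map_of_injective N.subtype_injective, card_comap_mk]
    refine PiN.mul ?_ hYπ
    rw [hQ', card_subgroupOf _ _ hQN]
    exact PiN.of_dvd hP.1 (card_dvd_of_le inf_le_left)
  have hPZ : P ≤ normalizer (Z : Set G) := by
    rw [le_normalizer_iff]
    rintro p hp _ ⟨n, hn, rfl⟩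
    refine ⟨(⟨p, hp⟩ : P) • n, ?_, rfl⟩
    show (QuotientGroup.mk ((⟨p, hp⟩ : P) • n) : N ⧸ Q') ∈ Y
    rw [← hf]
    exact hYinv _ ⟨_, rfl⟩ _ hn
  have hZP : Z ≤ P := le_of_maximal hP hPZ hZπ
  apply hY1
  rw [eq_bot_iff]
  intro y hy
  obtain ⟨n, rfl⟩ := QuotientGroup.mk_surjective y
  rw [mem_bot, QuotientGroup.eq_one_iff]
  have h1 : (n : G) ∈ Z := ⟨n, hy, rfl⟩
  exact ⟨hZP h1, n.2.2⟩

end Cfsg.Agent.H571.DExt
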