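import Cfsg.Agent.J3.Nineteen
import Cfsg.Agent.J3.Order
import Cfsg.Agent.H732.SteinbergSL2

/-!
# A homomorphism `SL₂(19) → 3·J₃` (helper571)

`g = (C_1 D_{(1,0)} D_{(1,1)})^7` and `t = n C_1 n⁻¹`, `n = D_{(0,2)} B_{(1,2)}`, satisfy the rank one
Steinberg relations of `SL₂(19)` with `x(s) = g^s` and `y(s) = t x(-s) t⁻¹`; the trace of `g` is `ω`.
-/

set_option autoImplicit false

namespace Cfsg.Agent.H571.JSub

open Cfsg.Spor Cfsg.Agent.J3.Core Cfsg.Agent.J3.Tab Cfsg.Agent.J3.Elts Cfsg.Agent.J3.Order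
open Cfsg.Agent.J3.Mono Cfsg.Agent.H731 Cfsg.Agent.H732 Matrix

def Tg : List ℕ := [210835, 72161, 59233, 31154, 33025, 49666, 87952, 174560, 116340, 150424,
  175201, 259250, 195124, 220952, 70792, 141516, 90482, 176787]

def Tt : List ℕ := [65541, 131082, 1029, 2058, 16, 32, 4672, 9088, 45248, 53312, 66564, 133128,
  49728, 17280, 25344, 45312, 66561, 133122]

theorem chk_g : beqL (powT (compT tC (compT (tD (1, 0)) (tD (1, 1)))) 7) Tg = true := by
  decide +kernel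

theorem chk_t : beqL (compT (tD (0, 2)) (compT (tB (1, 2)) (compT tC (compT (tB (2, 2))
    (tD (0, 1)))))) Tt = true := by
  decide +kernel

theorem chk_g19 : beqL (cols (powT Tg 19)) (cols (tS 0)) = true := by decide +kernel

theorem chk_tt : beqL (cols (compT Tt Tt)) (cols (tS 0)) = true := by decide +kernel

/-- `w = x(i) y(-j) x(i)` for `i j = 1` -/
def wT (i j : ℕ) : List ℕ :=
  compT (powT Tg i) (compT Tt (compT (powT Tg j) (compT Tt (powT Tg i))))

def relT (i j m : ℕ) : Bool :=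
  beqL (cols (compT (wT i j) Tg)) (cols (compT Tt (compT (powT Tg m) (compT Tt (wT i j)))))

theorem chkRel : ∀ i < 19, ∀ j < 19, i * j % 19 = 1 → relT i j (j * j % 19) = true := by
  decide +kernel

section
variable {F : Type*} [Field F] {ω : F}

/-- sum of the diagonal codes -/
def trT (T : List ℕ) : ℕ :=
  ((((cols T).getD 0 0 >>> 0) ^^^ ((cols T).getD 1 0 >>> 2)) ^^^ ((cols T).getD 2 0 >>> 4)) ^^^
  (((((cols T).getD 3 0 >>> 6) ^^^ ((cols T).getD 4 0 >>> 8)) ^^^ ((cols T).getD 5 0 >>> 10)) ^^^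
  ((((cols T).getD 6 0 >>> 12) ^^^ ((cols T).getD 7 0 >>> 14)) ^^^ ((cols T).getD 8 0 >>> 16)))

theorem trace_eq (H : Good ω) {T : List ℕ} {M : Matrix F9 F9 F} (hM : Rep ω T M) :
    M.trace = val ω (trT T) := by
  have key : ∀ z : F9, M z z = val ω ((cols T).getD (idx z) 0 >>> (2 * idx z)) := fun z =>
    congrFun (hM.col z) z
  have h1 : M.trace = ∑ z : ZMod 3 × ZMod 3, M z z := rfl
  have h2 : ∀ f : ZMod 3 → F, ∑ i : ZMod 3, f i = f 0 + f 1 + f 2 := fun f =>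
    Fin.sum_univ_three (f : Fin 3 → F)
  rw [h1, Fintype.sum_prod_type, h2, h2, h2, h2, key, key, key, key, key, key, key, key, key]
  unfold trT
  rw [val_xor H, val_xor H, val_xor H, val_xor H, val_xor H, val_xor H, val_xor H, val_xor H,
    add_assoc (_ + _ + _)]
  rfl

theorem chk_tr : trT Tg % 4 = 2 := by decide +kernel

/-- the elements `g` and `t` -/
theorem exists_gt [Fintype F] (hF : Fintype.card F = 4) (H : Good ω) :
    ∃ g t : threeJ3 F ω, RepG ω Tg g ∧ RepG ω Tt t := by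
  obtain ⟨G⟩ := exists_gens hF H
  have h12 : ((1, 2) : F9) ≠ 0 := by decide
  have h22 : ((2, 2) : F9) ≠ 0 := by decide
  refine ⟨(G.c * (G.d (1, 0) * G.d (1, 1))) ^ 7,
    G.d (0, 2) * (G.b (1, 2) * (G.c * (G.b (2, 2) * G.d (0, 1)))), ?_, ?_⟩
  · have h := ((rC G H).mul ((rD G H (1, 0)).mul (rD G H (1, 1)))).pow H 7
    rwa [beqL_eq chk_g] at h
  · have h := (rD G H (0, 2)).mul ((rB G H (1, 2) h12).mul ((rC G H).mul
      ((rB G H (2, 2) h22).mul (rD G H (0, 1)))))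
    rwa [beqL_eq chk_t] at h

theorem g_pow (H : Good ω) {g : threeJ3 F ω} (hg : RepG ω Tg g) : g ^ 19 = 1 :=
  (hg.pow H 19).ext (repG_one H) (beqL_eq chk_g19)

theorem t_sq (H : Good ω) {t : threeJ3 F ω} (ht : RepG ω Tt t) : t * t = 1 :=
  (ht.mul ht).ext (repG_one H) (beqL_eq chk_tt)

theorem rel (H : Good ω) {g t : threeJ3 F ω} (hg : RepG ω Tg g) (ht : RepG ω Tt t) {i j : ℕ}
    (hi : i < 19) (hj : j < 19) (hij : i * j % 19 = 1) :
    (g ^ i * (t * (g ^ j * (t * g ^ i)))) * g =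
      t * (g ^ (j * j % 19) * (t * (g ^ i * (t * (g ^ j * (t * g ^ i)))))) := by
  have hw : RepG ω (wT i j) (g ^ i * (t * (g ^ j * (t * g ^ i)))) :=
    (hg.pow H i).mul (ht.mul ((hg.pow H j).mul (ht.mul (hg.pow H i))))
  exact (hw.mul hg).ext (ht.mul ((hg.pow H _).mul (ht.mul hw))) (beqL_eq (chkRel i hi j hj hij))

instance fact19 : Fact (Nat.Prime 19) := ⟨by norm_num⟩

/-- `x(s) = g^s` -/
def xx {G : Type*} [Group G] (g : G) (s : ZMod 19) : G := g ^ s.val

/-- `y(s) = t g^{-s} t⁻¹` -/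
def yy {G : Type*} [Group G] (g t : G) (s : ZMod 19) : G := t * xx g (-s) * t⁻¹

section
variable {G : Type*} [Group G] {g t : G}

theorem pow_mod (hg : g ^ 19 = 1) (n : ℕ) : g ^ (n % 19) = g ^ n := by
  conv_rhs => rw [← Nat.mod_add_div n 19, pow_add, pow_mul, hg, one_pow, mul_one]

theorem xx_add (hg : g ^ 19 = 1) (s r : ZMod 19) : xx g (s + r) = xx g s * xx g r := by
  unfold xx
  rw [← pow_add, ZMod.val_add, pow_mod hg]

theorem xx_mul (hg : g ^ 19 = 1) (s r : ZMod 19) : xx g (s * r) = xx g s ^ r.val := by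
  unfold xx
  rw [← pow_mul, ZMod.val_mul, pow_mod hg]

theorem stRel (hg : g ^ 19 = 1) (ht : t * t = 1)
    (hr : ∀ i j : ℕ, i < 19 → j < 19 → i * j % 19 = 1 →
      (g ^ i * (t * (g ^ j * (t * g ^ i)))) * g =
        t * (g ^ (j * j % 19) * (t * (g ^ i * (t * (g ^ j * (t * g ^ i))))))) :
    StRel (xx g) (yy g t) := by
  have hti : t⁻¹ = t := inv_eq_of_mul_eq_one_right ht
  refine ⟨xx_add hg, ?_, ?_⟩
  · intro s r
    unfold yy
    rw [neg_add, xx_add hg]
    simp only [mul_assoc, inv_mul_cancel_left]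
  · intro τ hτ s
    have h1 : τ.val * (τ⁻¹).val % 19 = 1 := by
      have := ZMod.val_mul τ τ⁻¹
      rw [mul_inv_cancel₀ hτ] at this
      exact this.symm
    have h2 := hr _ _ (ZMod.val_lt τ) (ZMod.val_lt τ⁻¹) h1
    have hw : ww (xx g) (yy g t) τ = g ^ τ.val * (t * (g ^ (τ⁻¹).val * (t * g ^ τ.val))) := by
      unfold ww yy xx
      rw [neg_neg, hti]
      simp only [mul_assoc]
    rw [← hw] at h2
    have h3 : (ww (xx g) (yy g t) τ) * g * (ww (xx g) (yy g t) τ)⁻¹ = t * xx g (τ⁻¹ ^ 2) * t⁻¹ := by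
      rw [mul_inv_eq_iff_eq_mul]
      have e : xx g (τ⁻¹ ^ 2) = g ^ ((τ⁻¹).val * (τ⁻¹).val % 19) := by
        unfold xx
        rw [pow_two, ZMod.val_mul]
      rw [e, hti]
      have h4 : t * g ^ ((τ⁻¹).val * (τ⁻¹).val % 19) * t * ww (xx g) (yy g t) τ =
          t * (g ^ ((τ⁻¹).val * (τ⁻¹).val % 19) * (t * ww (xx g) (yy g t) τ)) := by
        simp only [mul_assoc]
      rw [h4, h2, hw]
    have h4 : (ww (xx g) (yy g t) τ) * xx g s * (ww (xx g) (yy g t) τ)⁻¹ =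
        ((ww (xx g) (yy g t) τ) * g * (ww (xx g) (yy g t) τ)⁻¹) ^ s.val := by
      rw [conj_pow]; rfl
    rw [h4, h3, conj_pow, ← xx_mul hg]
    unfold yy
    rw [neg_neg]

end

/-- **The homomorphism `SL₂(19) → 3·J₃`.** -/
theorem exists_hom_J3 [Fintype F] (hF : Fintype.card F = 4) (H : Good ω) :
    ∃ φ : Matrix.SpecialLinearGroup (Fin 2) (ZMod 19) →* threeJ3 F ω,
      (mat ω (φ (up (ZMod 19) 1))).trace = ω := by
  obtain ⟨g, t, hg, ht⟩ := exists_gt hF H
  have h := stRel (g_pow H hg) (t_sq H ht) (fun i j hi hj hij => rel H hg ht hi hj hij)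
  obtain ⟨φ, hφ, -, -, -⟩ := exists_hom h (hmul_of_finite h)
  refine ⟨φ, ?_⟩
  rw [hφ]
  have e : xx g (1 : ZMod 19) = g := by
    unfold xx
    rw [ZMod.val_one, pow_one]
  rw [e, trace_eq H hg, ← val_mod, chk_tr, val_two]

end

end Cfsg.Agent.H571.JSub
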