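import Cfsg.Agent.J3.Simple
import Cfsg.Prelude.Def_GeometricClasses
import Cfsg.Agent.H571.JSub

/-!
# `3·J₃` is contained in the special unitary group `SU₉(2)` (helper571)
-/

set_option autoImplicit false

namespace Cfsg.Agent.H571.JUnit

open Cfsg Cfsg.Spor Cfsg.Agent.J3.Core Cfsg.Agent.J3.Tab Cfsg.Agent.J3.Elts Cfsg.Agent.J3.Order
open Cfsg.Agent.J3.Mono Cfsg.Agent.J3.Nineteen Cfsg.Agent.J3.Simple Matrix

/-! ### codes of elements of `F_4` -/

/-- product of codes -/
def mulc (a b : ℕ) : ℕ := if a = 0 ∨ b = 0 then 0 else (a + b - 2) % 3 + 1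

/-- square of a code -/
def frobc (a : ℕ) : ℕ := mulc a a

/-- code of the entry `(x, z)` -/
def cc (T : List ℕ) (z x : ℕ) : ℕ := ((cols T).getD z 0 >>> (2 * x)) % 4

def xor9 (f : ℕ → ℕ) : ℕ :=
  ((f 0 ^^^ f 1) ^^^ f 2) ^^^ (((f 3 ^^^ f 4) ^^^ f 5) ^^^ ((f 6 ^^^ f 7) ^^^ f 8))

/-- the test for unitary matrices -/
def uniT (T : List ℕ) : Bool :=
  (List.range 9).all fun z => (List.range 9).all fun w =>
    Nat.beq (xor9 (fun x => mulc (cc T z x) (frobc (cc T w x)))) (if z = w then 1 else 0)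

theorem uniT_spec {T : List ℕ} (h : uniT T = true) {z w : ℕ} (hz : z < 9) (hw : w < 9) :
    xor9 (fun x => mulc (cc T z x) (frobc (cc T w x))) = if z = w then 1 else 0 := by
  unfold uniT at h
  rw [List.all_eq_true] at h
  have h1 := h z (List.mem_range.2 hz)
  rw [List.all_eq_true] at h1
  exact Nat.eq_of_beq_eq_true (h1 w (List.mem_range.2 hw))

theorem uniA : ∀ Z : F9, uniT (tA Z) = true := by decide +kernel
theorem uniD : ∀ Z : F9, uniT (tD Z) = true := by decide +kernel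
theorem uniB : ∀ Z : F9, Z ≠ 0 → uniT (tB Z) = true := by decide +kernel
theorem uniE : uniT tE = true := by decide +kernel
theorem uniC : uniT tC = true := by decide +kernel

section
variable {F : Type*} [Field F] {ω : F}

theorem val_pow (H : Good ω) : ∀ n : ℕ, val ω (n % 3 + 1) = ω ^ n := by
  intro n
  have h3 := H.cube
  have h1 : ω ^ n = ω ^ (n % 3) := by
    conv_lhs => rw [← Nat.mod_add_div n 3, pow_add, pow_mul, h3, one_pow, mul_one]
  rw [h1]
  exact (omega_pow_eq H (n % 3) (Nat.mod_lt _ (by norm_num))).symm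

theorem val_succ (H : Good ω) {a : ℕ} (ha : a < 4) (h0 : a ≠ 0) : val ω a = ω ^ (a - 1) := by
  have h := val_pow H (a - 1)
  rw [← h]
  congr 1
  omega

theorem val_mulc (H : Good ω) {a b : ℕ} (ha : a < 4) (hb : b < 4) :
    val ω (mulc a b) = val ω a * val ω b := by
  unfold mulc
  by_cases h0 : a = 0 ∨ b = 0
  · rw [if_pos h0, val_zero]
    rcases h0 with rfl | rfl
    · rw [val_zero, zero_mul]
    · rw [val_zero, mul_zero]
  · rw [if_neg h0, val_pow H, val_succ H ha (by omega), val_succ H hb (by omega), ← pow_add]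
    congr 1
    omega

theorem mulc_lt (a b : ℕ) : mulc a b < 4 := by
  unfold mulc
  split
  · norm_num
  · omega

theorem val_frobc (H : Good ω) {a : ℕ} (ha : a < 4) : val ω (frobc a) = val ω a ^ 2 := by
  unfold frobc
  rw [val_mulc H ha ha, sq]

theorem sum_val (H : Good ω) (f : ℕ → ℕ) :
    ∑ z : F9, val ω (f (idx z)) = val ω (xor9 f) := by
  have h1 : (∑ z : F9, val ω (f (idx z))) = ∑ z : ZMod 3 × ZMod 3, val ω (f (idx z)) := rfl
  have h2 : ∀ f : ZMod 3 → F, ∑ i : ZMod 3, f i = f 0 + f 1 + f 2 := fun f =>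
    Fin.sum_univ_three (f : Fin 3 → F)
  rw [h1, Fintype.sum_prod_type, h2, h2, h2, h2]
  unfold xor9
  rw [val_xor H, val_xor H, val_xor H, val_xor H, val_xor H, val_xor H, val_xor H, val_xor H,
    add_assoc (_ + _ + _)]
  rfl

theorem entry {T : List ℕ} {M : Matrix F9 F9 F} (hM : Rep ω T M) (x z : F9) :
    M x z = val ω (cc T (idx z) (idx x)) := by
  have h := congrFun (hM.col z) x
  rw [h, dec_apply, ← val_mod]
  rfl

theorem cc_lt (T : List ℕ) (z x : ℕ) : cc T z x < 4 := Nat.mod_lt _ (by norm_num)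

theorem idx_inj : ∀ z w : F9, idx z = idx w ↔ z = w := by decide +kernel

theorem frobc_lt (a : ℕ) : frobc a < 4 := mulc_lt a a

/-- The test is correct. -/
theorem uni_of_rep (H : Good ω) {T : List ℕ} {M : Matrix F9 F9 F} (hM : Rep ω T M)
    (hT : uniT T = true) : Mᵀ * M.map (fun x => x ^ 2) = 1 := by
  ext z w
  have h1 : ∀ x : F9, Mᵀ z x * M.map (fun x => x ^ 2) x w =
      val ω ((fun x => mulc (cc T (idx z) x) (frobc (cc T (idx w) x))) (idx x)) := by
    intro x
    rw [Matrix.transpose_apply, Matrix.map_apply, entry hM, entry hM]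
    change _ = val ω (mulc (cc T (idx z) (idx x)) (frobc (cc T (idx w) (idx x))))
    rw [val_mulc H (cc_lt _ _ _) (frobc_lt _), val_frobc H (cc_lt _ _ _)]
  have h2 : (Mᵀ * M.map (fun x => x ^ 2)) z w =
      val ω (xor9 (fun x => mulc (cc T (idx z) x) (frobc (cc T (idx w) x)))) := by
    rw [← sum_val H, Matrix.mul_apply]
    exact Finset.sum_congr rfl fun x _ => h1 x
  rw [h2, uniT_spec hT (idx_lt z) (idx_lt w)]
  by_cases h : z = w
  · rw [if_pos ((idx_inj z w).2 h), h, Matrix.one_apply_eq, val_one]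
  · rw [if_neg (fun h' => h ((idx_inj z w).1 h')), Matrix.one_apply_ne h, val_zero]

end

/-! ### the unitary group -/

section UU

variable {ι : Type} [Fintype ι] [DecidableEq ι] {F : Type*} [Field F]

/-- The unitary group of the standard form, by matrices. -/
def UU (ι : Type) [Fintype ι] [DecidableEq ι] (σ : F ≃+* F) : Subgroup (GL ι F) where
  carrier := {g | (g : Matrix ι ι F)ᵀ * (g : Matrix ι ι F).map σ = 1}
  mul_mem' := by
    intro a b ha hb
    change ((a * b : GL ι F) : Matrix ι ι F)ᵀ * ((a * b : GL ι F) : Matrix ι ι F).map σ = 1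
    have ha' : (a : Matrix ι ι F)ᵀ * (a : Matrix ι ι F).map σ = 1 := ha
    have hb' : (b : Matrix ι ι F)ᵀ * (b : Matrix ι ι F).map σ = 1 := hb
    rw [Units.val_mul, Matrix.transpose_mul, Matrix.map_mul]
    calc (b : Matrix ι ι F)ᵀ * (a : Matrix ι ι F)ᵀ * ((a : Matrix ι ι F).map σ * (b : Matrix ι ι F).map σ)
        = (b : Matrix ι ι F)ᵀ * ((a : Matrix ι ι F)ᵀ * (a : Matrix ι ι F).map σ) * (b : Matrix ι ι F).map σ := by
          simp only [Matrix.mul_assoc]
      _ = 1 := by rw [ha', Matrix.mul_one, hb']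
  one_mem' := by
    change ((1 : GL ι F) : Matrix ι ι F)ᵀ * ((1 : GL ι F) : Matrix ι ι F).map σ = 1
    rw [Units.val_one, Matrix.transpose_one, Matrix.map_one σ (map_zero σ) (map_one σ), Matrix.one_mul]
  inv_mem' := by
    intro a ha
    change ((a⁻¹ : GL ι F) : Matrix ι ι F)ᵀ * ((a⁻¹ : GL ι F) : Matrix ι ι F).map σ = 1
    have ha' : (a : Matrix ι ι F)ᵀ * (a : Matrix ι ι F).map σ = 1 := ha
    have h1 : (a : Matrix ι ι F).map σ * (a : Matrix ι ι F)ᵀ = 1 := mul_eq_one_comm.1 ha'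
    have h2 : (a : Matrix ι ι F).map σ * ((a⁻¹ : GL ι F) : Matrix ι ι F).map σ = 1 := by
      rw [← Matrix.map_mul, ← Units.val_mul, mul_inv_cancel, Units.val_one,
        Matrix.map_one σ (map_zero σ) (map_one σ)]
    have h3 : (a : Matrix ι ι F)ᵀ * ((a⁻¹ : GL ι F) : Matrix ι ι F)ᵀ = 1 := by
      rw [← Matrix.transpose_mul, ← Units.val_mul, inv_mul_cancel, Units.val_one, Matrix.transpose_one]
    have h4 : ((a⁻¹ : GL ι F) : Matrix ι ι F)ᵀ = (a : Matrix ι ι F).map σ := by
      have := congrArg (fun w => (a : Matrix ι ι F).map σ * w) h3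
      simp only [← Matrix.mul_assoc, h1, Matrix.one_mul, Matrix.mul_one] at this
      exact this
    rw [h4, h2]

theorem mem_UU {σ : F ≃+* F} {g : GL ι F} :
    g ∈ UU ι σ ↔ (g : Matrix ι ι F)ᵀ * (g : Matrix ι ι F).map σ = 1 := Iff.rfl

/-- Invariance under reindexing. -/
theorem reindex_mem {κ : Type} [Fintype κ] [DecidableEq κ] (e : ι ≃ κ) {σ : F ≃+* F} {g : GL ι F} :
    Cfsg.Geo.glReindex e g ∈ UU κ σ ↔ g ∈ UU ι σ := by
  rw [mem_UU, mem_UU]
  change ((g : Matrix ι ι F).submatrix e.symm e.symm)ᵀ *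
    ((g : Matrix ι ι F).submatrix e.symm e.symm).map σ = 1 ↔ _
  rw [Matrix.transpose_submatrix, ← Matrix.submatrix_map, Matrix.submatrix_mul_equiv]
  constructor
  · intro h
    have h1 := congrArg (fun w => w.submatrix e e) h
    simpa using h1
  · intro h
    rw [h]
    simp

end UU

section J
variable {F : Type*} [Field F] {ω : F}

/-- `3·J₃ ≤ GU₉(2)` -/
theorem threeJ3_le [Fintype F] (hF : Fintype.card F = 4) (H : Good ω) {σ : F ≃+* F}
    (hσ : ∀ x, σ x = x ^ 2) : threeJ3 F ω ≤ UU F9 σ := by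
  obtain ⟨G⟩ := exists_gens hF H
  have hσ' : (σ : F → F) = fun x => x ^ 2 := funext hσ
  have key : ∀ {T : List ℕ} {g : threeJ3 F ω}, RepG ω T g → uniT T = true →
      g ∈ (UU F9 σ).subgroupOf (threeJ3 F ω) := by
    intro T g hg hT
    rw [Subgroup.mem_subgroupOf, mem_UU, hσ']
    exact uni_of_rep H hg hT
  have h := G.eq_top H (N := (UU F9 σ).subgroupOf (threeJ3 F ω)) ?_ (fun Z => key (rA G H Z) (uniA Z))
    (fun Z => key (rD G H Z) (uniD Z)) (fun Z hZ => key (rB G H Z hZ) (uniB Z hZ))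
    (key (rE G H) uniE) (key (rC G H) uniC)
  · exact Subgroup.subgroupOf_eq_top.1 h
  · intro x n hx
    rw [Subgroup.mem_subgroupOf, mem_UU, hσ']
    change (mat ω x)ᵀ * (mat ω x).map (fun x => x ^ 2) = 1
    rw [hx]
    ext i j
    rw [Matrix.transpose_smul, Matrix.transpose_one, Matrix.smul_mul, Matrix.one_mul,
      Matrix.smul_apply, Matrix.map_apply, Matrix.smul_apply]
    by_cases hij : i = j
    · subst hij
      rw [Matrix.one_apply_eq, smul_eq_mul, smul_eq_mul, mul_one, ← pow_mul, ← pow_add]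
      have : n + n * 2 = 3 * n := by ring
      rw [this, pow_mul, H.cube, one_pow]
    · rw [Matrix.one_apply_ne hij]
      simp

/-- `3·J₃ ≤ SL₉(4)` -/
theorem det_eq_one [Fintype F] (hF : Fintype.card F = 4) (H : Good ω) {g : GL F9 F}
    (hg : g ∈ threeJ3 F ω) : Matrix.GeneralLinearGroup.det g = 1 := by
  obtain ⟨G⟩ := exists_gens hF H
  obtain ⟨s, hs⟩ := exists_scalar H G
  have h := hom_trivial H G hs (Matrix.GeneralLinearGroup.det.comp (threeJ3 F ω).subtype) (by
    intro y hy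
    have h1 : (Matrix.GeneralLinearGroup.det.comp (threeJ3 F ω).subtype) y ^ 19 = 1 := by
      rw [← map_pow, ← hy, pow_orderOf_eq_one, map_one]
    have h2 : ∀ a : Fˣ, a ^ 3 = 1 := by
      intro a
      have h3 : (a : F) ^ (Fintype.card F - 1) = 1 := FiniteField.pow_card_sub_one_eq_one _ a.ne_zero
      rw [hF] at h3
      exact Units.ext (by rw [Units.val_pow_eq_pow_val, Units.val_one]; exact h3)
    have h4 : ∀ a : Fˣ, a ^ 19 = 1 → a = 1 := by
      intro a ha
      have h5 : a ^ 19 = (a ^ 3) ^ 6 * a := by rw [← pow_mul, ← pow_succ]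
      rwa [h2, one_pow, one_mul, ha, eq_comm] at h5
    exact h4 _ h1)
  have h1 : (⟨g, hg⟩ : threeJ3 F ω) ∈ (Matrix.GeneralLinearGroup.det.comp (threeJ3 F ω).subtype).ker := by
    rw [h]; trivial
  exact h1

/-- the scalars are in `3·J₃` -/
theorem scalar_mem [Fintype F] (hF : Fintype.card F = 4) (H : Good ω) {g : GL F9 F} {c : F}
    (hg : (g : Matrix F9 F9 F) = c • 1) : g ∈ threeJ3 F ω := by
  obtain ⟨G⟩ := exists_gens hF H
  obtain ⟨s, hs⟩ := exists_scalar H G
  have hc : c ≠ 0 := by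
    rintro rfl
    rw [zero_smul] at hg
    have h1 := g.isUnit
    rw [hg] at h1
    exact not_isUnit_zero h1
  obtain ⟨k, rfl⟩ := eq_pow_of_ne_zero hF H hc
  have h1 : g = ((s ^ k : threeJ3 F ω) : GL F9 F) := by
    apply Units.ext
    rw [hg]
    have h2 : mat ω (s ^ k) = ω ^ k • 1 := by rw [map_pow, hs, smul_pow, one_pow]
    exact h2.symm
  rw [h1]
  exact (s ^ k).2

end J

end Cfsg.Agent.H571.JUnit
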