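import Mathlib
import Cfsg.Agent.H571.SylowNumber
import Cfsg.Agent.H571.SmallSylow
import Cfsg.Agent.S0720
import Cfsg.Agent.S0985

/-!
# Simple groups with exactly 22 Sylow 3-subgroups: the action is doubly transitive and the
Sylow 3-subgroups have order 3
-/

set_option autoImplicit false

namespace Cfsg.Agent.H571.TwentyTwo

open Subgroup MulAction

instance fact3 : Fact (Nat.Prime 3) := ⟨by norm_num⟩

variable {G : Type*} [Group G] [Finite G]

/-- A divisor of `22` which is `1` mod `3` is `1` or `22`. -/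
theorem eq_one_or_of_dvd {n : ℕ} (h : n ∣ 22) (h1 : n ≡ 1 [MOD 3]) : n = 1 ∨ n = 22 := by
  have h2 : n ∈ Nat.divisors 22 := Nat.mem_divisors.2 ⟨h, by norm_num⟩
  have h3 : Nat.divisors 22 = {1, 2, 11, 22} := by decide
  rw [h3] at h2
  simp only [Finset.mem_insert, Finset.mem_singleton] at h2
  rcases h2 with rfl | rfl | rfl | rfl
  · exact Or.inl rfl
  · exact absurd h1 (by decide)
  · exact absurd h1 (by decide)
  · exact Or.inr rfl

/-- The stabilizer of a Sylow 3-subgroup is maximal. -/
theorem isPreprimitive (hn : Nat.card (Sylow 3 G) = 22) : IsPreprimitive G (Sylow 3 G) := by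
  have hnt : Nontrivial (Sylow 3 G) := by
    rw [← Finite.one_lt_card_iff_nontrivial, hn]
    norm_num
  obtain ⟨P⟩ : Nonempty (Sylow 3 G) := inferInstance
  rw [← isCoatom_stabilizer_iff_preprimitive G P, Sylow.stabilizer_eq_normalizer]
  have hidx : (normalizer ((P : Subgroup G) : Set G)).index = 22 := by
    have h0 : Nat.card (Sylow 3 G) = (normalizer ((P : Subgroup G) : Set G)).index :=
      P.card_eq_index_normalizer
    rw [← h0, hn]
  refine ⟨?_, ?_⟩
  · intro h
    have h1 : normalizer ((P : Subgroup G) : Set G) = ⊤ := h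
    rw [h1, index_top] at hidx
    norm_num at hidx
  · intro H hH
    have hPH : (P : Subgroup G) ≤ H := le_normalizer.trans hH.le
    have h1 := SylowNumber.card_sylow_eq_relIndex P H hPH
    have h2 : (normalizer ((P : Subgroup G) : Set G)).relIndex H * H.index = 22 := by
      rw [← hidx]
      exact relIndex_mul_index hH.le
    have h3 : Nat.card (Sylow 3 H) ≡ 1 [MOD 3] := card_sylow_modEq_one 3 H
    rw [h1] at h3
    rcases eq_one_or_of_dvd (Dvd.intro _ h2) h3 with h4 | h4
    · exfalso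
      rw [relIndex_eq_one] at h4
      exact absurd (le_antisymm hH.le h4) hH.ne
    · rw [h4] at h2
      have h5 : H.index = 1 := by omega
      exact index_eq_one.1 h5

/-- The action on the Sylow 3-subgroups is doubly transitive. -/
theorem two_transitive (hn : Nat.card (Sylow 3 G) = 22) {P Q P' Q' : Sylow 3 G}
    (h : P ≠ Q) (h' : P' ≠ Q') : ∃ g : G, g • P = P' ∧ g • Q = Q' := by
  classical
  have hp := isPreprimitive hn
  have hfin : Fintype (Sylow 3 G) := Fintype.ofFinite _
  set G' : Subgroup (Equiv.Perm (Sylow 3 G)) := (toPermHom G (Sylow 3 G)).range with hG'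
  have hp' : IsPreprimitive G' (Sylow 3 G) := by
    let f : Sylow 3 G →ₑ[(toPermHom G (Sylow 3 G)).rangeRestrict] (Sylow 3 G) :=
      { toFun := id
        map_smul' := fun g x => rfl }
    exact IsPreprimitive.of_surjective (f := f) Function.surjective_id
  have hcard : Fintype.card (Sylow 3 G) = 2 * 11 := by
    rw [← Nat.card_eq_fintype_card, hn]
  rcases S0720.result (by norm_num : Nat.Prime 11) hcard G' hp' P with h1 | ⟨-, a, -, ha, -⟩
  · rw [is_two_pretransitive_iff] at h1
    obtain ⟨⟨_, g, rfl⟩, hg1, hg2⟩ := h1 h h'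
    exact ⟨g, hg1, hg2⟩
  · exfalso
    rcases Nat.lt_or_ge a 2 with h2 | h2
    · interval_cases a <;> omega
    · rcases Nat.lt_or_ge a 3 with h3 | h3
      · interval_cases a; omega
      · nlinarith

/-- All indices `|P : P ∩ Q|` divide 3. -/
theorem relIndex_dvd (hn : Nat.card (Sylow 3 G) = 22) (P Q : Sylow 3 G) :
    (Q : Subgroup G).relIndex (P : Subgroup G) ∣ 3 := by
  by_cases hPQ : P = Q
  · subst hPQ
    rw [relIndex_self]
    exact one_dvd _
  obtain ⟨P₀, Q₀, h0, h1⟩ := S0985.result (G := G) 3 2 (by rw [hn]; decide)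
  obtain ⟨g, rfl, rfl⟩ := two_transitive hn h0 hPQ
  have h2 : ((g • Q₀ : Sylow 3 G) : Subgroup G).relIndex ((g • P₀ : Sylow 3 G) : Subgroup G) =
      (Q₀ : Subgroup G).relIndex (P₀ : Subgroup G) := by
    rw [Sylow.coe_subgroup_smul, Sylow.coe_subgroup_smul]
    exact relIndex_map_map_of_injective (f := (MulAut.conj g).toMonoidHom)
      (Q₀ : Subgroup G) (P₀ : Subgroup G) (MulAut.conj g).injective
  rw [h2]
  have h3 : (Q₀ : Subgroup G).relIndex (P₀ : Subgroup G) ≤ 3 := h1
  have h4 : (Q₀ : Subgroup G).relIndex (P₀ : Subgroup G) ∣ Nat.card (P₀ : Subgroup G) :=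
    relIndex_dvd_card _ _
  obtain ⟨n, hn'⟩ := IsPGroup.iff_card.1 P₀.isPGroup'
  rw [hn'] at h4
  obtain ⟨k, -, hk⟩ := (Nat.dvd_prime_pow (by norm_num : Nat.Prime 3)).1 h4
  rw [hk] at h3 ⊢
  have h5 : k ≤ 1 := by
    by_contra hk1
    have : 3 ^ 2 ≤ 3 ^ k := Nat.pow_le_pow_right (by norm_num) (by omega)
    omega
  exact (pow_dvd_pow 3 h5).trans (by norm_num)

end Cfsg.Agent.H571.TwentyTwo
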